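import Mathlib

/-!
Changing one of two involutive permutations on few points: odd periods of the product.
-/

set_option autoImplicit false

namespace Cfsg.Agent.InvGraph

variable {α : Type*}

/-- The point p has odd period under g. -/
def OddPer (g : Equiv.Perm α) (p : α) : Prop := ∃ k, Odd k ∧ (g ^ k) p = p

theorem pow_add_apply (g : Equiv.Perm α) (i j : ℕ) (p : α) :
    (g ^ (i + j)) p = (g ^ i) ((g ^ j) p) := by
  rw [pow_add, Equiv.Perm.mul_apply]

theorem pow_succ_apply (g : Equiv.Perm α) (i : ℕ) (p : α) : (g ^ (i + 1)) p = g ((g ^ i) p) := by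
  rw [pow_succ', Equiv.Perm.mul_apply]

theorem pow_fix_mul (g : Equiv.Perm α) {k : ℕ} {p : α} (h : (g ^ k) p = p) (n : ℕ) :
    (g ^ (k * n)) p = p := by
  induction n with
  | zero => simp
  | succ n ih => rw [Nat.mul_succ, pow_add_apply, h, ih]

theorem OddPer.pow_apply {g : Equiv.Perm α} {p : α} (h : OddPer g p) (i : ℕ) :
    OddPer g ((g ^ i) p) := by
  obtain ⟨k, hk, hp⟩ := h
  exact ⟨k, hk, by rw [← pow_add_apply, add_comm, pow_add_apply, hp]⟩

theorem OddPer.of_pow_apply {g : Equiv.Perm α} {p : α} (i : ℕ) (h : OddPer g ((g ^ i) p)) :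
    OddPer g p := by
  obtain ⟨k, hk, hp⟩ := h
  refine ⟨k, hk, (g ^ i).injective ?_⟩
  rw [← pow_add_apply, add_comm, pow_add_apply, hp]

/-- The involution z inverts the product z*y. -/
theorem semiconj_inv (z y : Equiv.Perm α) (hz : z * z = 1) (hy : y * y = 1) :
    SemiconjBy z (z * y)⁻¹ (z * y) := by
  rw [SemiconjBy, mul_inv_rev, inv_eq_of_mul_eq_one_right hy, inv_eq_of_mul_eq_one_right hz,
    mul_assoc]

theorem OddPer.apply_inv {z y : Equiv.Perm α} (hz : z * z = 1) (hy : y * y = 1) {p : α}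
    (h : OddPer (z * y) p) : OddPer (z * y) (z p) := by
  obtain ⟨k, hk, hp⟩ := h
  refine ⟨k, hk, ?_⟩
  have e := (semiconj_inv z y hz hy).pow_right k
  rw [SemiconjBy] at e
  rw [← Equiv.Perm.mul_apply, ← e, Equiv.Perm.mul_apply, inv_pow]
  congr 1
  rw [Equiv.Perm.inv_eq_iff_eq, hp]

theorem odd_orderOf_of_oddPer [Fintype α] (g : Equiv.Perm α) (h : ∀ p, OddPer g p) :
    Odd (orderOf g) := by
  classical
  choose k hk hp using h
  have hodd : Odd (∏ p, k p) :=
    Finset.prod_induction k Odd (fun a b ha hb => ha.mul hb) odd_one (fun p _ => hk p)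
  refine hodd.of_dvd_nat (orderOf_dvd_of_pow_eq_one (Equiv.ext fun p => ?_))
  obtain ⟨n, hn⟩ := Finset.dvd_prod_of_mem k (Finset.mem_univ p)
  rw [hn, pow_fix_mul g (hp p), Equiv.Perm.one_apply]

theorem oddPer_of_odd_orderOf (g : Equiv.Perm α) (h : Odd (orderOf g)) (p : α) : OddPer g p :=
  ⟨_, h, by rw [pow_orderOf_eq_one, Equiv.Perm.one_apply]⟩

section Walk

variable (y z z' : Equiv.Perm α) (T : Set α)

theorem follow (hz' : ∀ w, w ∉ T → z' w = z w) (u : α) :
    ∀ j : ℕ, (∀ i, i < j → y (((z * y) ^ i) u) ∉ T) →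
      ((z' * y) ^ j) u = ((z * y) ^ j) u := by
  intro j
  induction j with
  | zero => intro _; simp
  | succ j ih =>
    intro h
    rw [pow_succ_apply, pow_succ_apply, ih (fun i hi => h i (Nat.lt_succ_of_lt hi)),
      Equiv.Perm.mul_apply, Equiv.Perm.mul_apply, hz' _ (h j (Nat.lt_succ_self j))]

/-- Follow the old walk up to the point w. -/
theorem walk (hz' : ∀ w, w ∉ T → z' w = z w) (u w : α) (j : ℕ)
    (h : ∀ i, i < j → y (((z * y) ^ i) u) ∉ T) (hw : y (((z * y) ^ j) u) = w) :
    ((z' * y) ^ (j + 1)) u = z' w := by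
  rw [pow_succ_apply, follow y z z' T hz' u j h, Equiv.Perm.mul_apply, hw]

/-- Odd periods survive if the changed points get odd periods. -/
theorem transfer (hz' : ∀ w, w ∉ T → z' w = z w) (hT : ∀ w ∈ T, z' w ∈ T)
    (hodd : ∀ w ∈ T, OddPer (z' * y) w) (u : α)
    (hu : OddPer (z * y) u ∨ ∃ i, y (((z * y) ^ i) u) ∈ T) :
    OddPer (z' * y) u := by
  classical
  by_cases h : ∃ i, y (((z * y) ^ i) u) ∈ T
  · have h1 := walk y z z' T hz' u _ (Nat.find h) (fun i hi => Nat.find_min h hi) rfl
    apply OddPer.of_pow_apply (Nat.find h + 1)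
    rw [h1]
    exact hodd _ (hT _ (Nat.find_spec h))
  · push Not at h
    obtain ⟨k, hk, hp⟩ := hu.resolve_right (fun ⟨i, hi⟩ => h i hi)
    exact ⟨k, hk, by rw [follow y z z' T hz' u k (fun i _ => h i), hp]⟩

end Walk

/-- Attach two 2-cycles of z to the cycle through e. -/
theorem attach_edge (y z z' : Equiv.Perm α) (T : Set α) (hz' : ∀ w, w ∉ T → z' w = z w)
    (hzz : z * z = 1) (hzz' : z' * z' = 1) (hy : y * y = 1)
    (a1 b1 a2 b2 d e : α) (hde : d ≠ e) (hzd : z d = e)
    (hTdef : T = {a1, b1, a2, b2, d, e})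
    (havoid : ∀ i, (y (((z * y) ^ i) e) ∈ T → y (((z * y) ^ i) e) = d ∨ y (((z * y) ^ i) e) = e) ∧
      (y (((z * y) ^ i) d) ∈ T → y (((z * y) ^ i) d) = d ∨ y (((z * y) ^ i) d) = e))
    (he : OddPer (z * y) e) (h1 : z' d = a1) (h2 : z' e = a2) (h3 : z' b1 = b2)
    (A B : ℕ) (hA : Even A) (hB : Even B)
    (hAe : ((z' * y) ^ A) a1 = e) (hBe : ((z' * y) ^ B) a2 = d)
    (hb : ∃ i, ((z' * y) ^ i) a1 = b1 ∨ ((z' * y) ^ i) a1 = b2) :
    ∀ u, (OddPer (z * y) u ∨ ∃ i, y (((z * y) ^ i) u) ∈ T) → OddPer (z' * y) u := by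
  classical
  have hze : z e = d := by
    rw [← hzd, ← Equiv.Perm.mul_apply, hzz, Equiv.Perm.one_apply]
  have hdper : OddPer (z * y) d := hze ▸ he.apply_inv hzz hy
  have hmem : ∀ w, (w = d ∨ w = e) → w ∈ T := by
    rintro w (rfl | rfl) <;> simp [hTdef]
  obtain ⟨k, hk, hke⟩ := he
  have hex : ∃ i, y (((z * y) ^ i) e) = d ∨ y (((z * y) ^ i) e) = e := by
    refine ⟨k - 1, Or.inl (z.injective ?_)⟩
    rw [← Equiv.Perm.mul_apply z y, ← pow_succ_apply, Nat.sub_add_cancel hk.pos, hke, hzd]
  set j := Nat.find hex with hj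
  have hmin : ∀ i, i < j → y (((z * y) ^ i) e) ∉ T := fun i hi h =>
    Nat.find_min hex hi ((havoid i).1 h)
  have hbase : OddPer (z' * y) e ∧ OddPer (z' * y) a1 := by
    rcases Nat.find_spec hex with hd | he'
    · -- the other end of the edge is met
      have hj_even : Even j := by
        by_contra hne
        rw [Nat.not_even_iff_odd] at hne
        have hP : ((z * y) ^ (j + 1)) e = e := by
          rw [pow_succ_apply, Equiv.Perm.mul_apply, hd, hzd]
        have hP2 : Even (j + 1) := hne.add_one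
        have hr : ((z * y) ^ (k % (j + 1))) e = e := by
          conv_rhs => rw [← hke, ← Nat.mod_add_div k (j + 1), pow_add_apply, pow_fix_mul _ hP]
        have hrodd : Odd (k % (j + 1)) := by
          rw [Nat.odd_iff, Nat.mod_mod_of_dvd _ (even_iff_two_dvd.1 hP2), ← Nat.odd_iff]
          exact hk
        have hlt : k % (j + 1) < j + 1 := Nat.mod_lt k (Nat.succ_pos j)
        refine Nat.find_min hex (show k % (j + 1) - 1 < j by have := hrodd.pos; omega)
          (Or.inl (z.injective ?_))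
        rw [← Equiv.Perm.mul_apply z y, ← pow_succ_apply, Nat.sub_add_cancel hrodd.pos, hr, hzd]
      have e1 : ((z' * y) ^ (j + 1)) e = a1 := h1 ▸ walk y z z' T hz' e d j hmin hd
      have e2 : OddPer (z' * y) e :=
        ⟨A + (j + 1), hA.add_odd hj_even.add_one, by rw [pow_add_apply, e1, hAe]⟩
      exact ⟨e2, e1 ▸ e2.pow_apply _⟩
    · -- the edge lies on a path
      obtain ⟨k', hk', hkd⟩ := hdper
      have hex' : ∃ i, y (((z * y) ^ i) d) = d ∨ y (((z * y) ^ i) d) = e := by
        refine ⟨k' - 1, Or.inr (z.injective ?_)⟩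
        rw [← Equiv.Perm.mul_apply z y, ← pow_succ_apply, Nat.sub_add_cancel hk'.pos, hkd, hze]
      set j' := Nat.find hex' with hj'
      have hmin' : ∀ i, i < j' → y (((z * y) ^ i) d) ∉ T := fun i hi h =>
        Nat.find_min hex' hi ((havoid i).2 h)
      have hd' : y (((z * y) ^ j') d) = d := by
        rcases Nat.find_spec hex' with h | h
        · exact h
        exfalso
        have heq : ((z * y) ^ j') d = ((z * y) ^ j) e := y.injective (h.trans he'.symm)
        rcases lt_trichotomy j' j with hlt | hlt | hlt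
        · have : ((z * y) ^ (j - j')) e = d := ((z * y) ^ j').injective (by
            rw [← pow_add_apply, Nat.add_sub_cancel' hlt.le, ← heq])
          refine Nat.find_min hex (show j - j' - 1 < j by omega) (Or.inr (z.injective ?_))
          rw [← Equiv.Perm.mul_apply z y, ← pow_succ_apply, Nat.sub_add_cancel (by omega), this,
            hze]
        · exact hde (((z * y) ^ j').injective (heq.trans (by rw [hlt])))
        · have : ((z * y) ^ (j' - j)) d = e := ((z * y) ^ j).injective (by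
            rw [← pow_add_apply, Nat.add_sub_cancel' hlt.le, heq])
          refine Nat.find_min hex' (show j' - j - 1 < j' by omega) (Or.inl (z.injective ?_))
          rw [← Equiv.Perm.mul_apply z y, ← pow_succ_apply, Nat.sub_add_cancel (by omega), this,
            hzd]
      have hP : ((z * y) ^ (j' + 1 + (j + 1))) e = e := by
        rw [pow_add_apply, pow_succ_apply _ j e, Equiv.Perm.mul_apply, he', hze, pow_succ_apply,
          Equiv.Perm.mul_apply, hd', hzd]
      have hsum : Odd (j + j') := by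
        by_contra hne
        rw [Nat.not_odd_iff_even] at hne
        have hP2 : Even (j' + 1 + (j + 1)) := by
          rw [show j' + 1 + (j + 1) = j + j' + 2 by ring]; exact hne.add even_two
        have hr : ((z * y) ^ (k % (j' + 1 + (j + 1)))) e = e := by
          conv_rhs => rw [← hke, ← Nat.mod_add_div k (j' + 1 + (j + 1)), pow_add_apply,
            pow_fix_mul _ hP]
        have hrodd : Odd (k % (j' + 1 + (j + 1))) := by
          rw [Nat.odd_iff, Nat.mod_mod_of_dvd _ (even_iff_two_dvd.1 hP2), ← Nat.odd_iff]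
          exact hk
        set r := k % (j' + 1 + (j + 1)) with hr'
        have hlt : r < j' + 1 + (j + 1) := Nat.mod_lt k (by omega)
        have hhit : y (((z * y) ^ (r - 1)) e) = d := z.injective (by
          rw [← Equiv.Perm.mul_apply z y, ← pow_succ_apply, Nat.sub_add_cancel hrodd.pos, hr,
            hzd])
        rcases lt_trichotomy (r - 1) j with hl | hl | hl
        · exact Nat.find_min hex hl (Or.inl hhit)
        · rw [hl, he'] at hhit; exact hde hhit.symm
        · refine Nat.find_min hex' (show r - 1 - (j + 1) < j' by omega) (Or.inl ?_)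
          have e' : ((z * y) ^ (j + 1)) e = d := by
            rw [pow_succ_apply, Equiv.Perm.mul_apply, he', hze]
          have e'' : ((z * y) ^ (r - 1 - (j + 1))) d = ((z * y) ^ (r - 1)) e := by
            rw [← e', ← pow_add_apply, Nat.sub_add_cancel (by omega)]
          rw [e'']
          exact hhit
      have e1 : ((z' * y) ^ (j + 1)) e = a2 := h2 ▸ walk y z z' T hz' e e j hmin he'
      have e3 : ((z' * y) ^ (j' + 1)) d = a1 := h1 ▸ walk y z z' T hz' d d j' hmin' hd'
      have e4 : ((z' * y) ^ ((j' + 1) + (B + (j + 1)))) e = a1 := by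
        rw [pow_add_apply _ (j' + 1), pow_add_apply _ B, e1, hBe, e3]
      have hodd : Odd (A + ((j' + 1) + (B + (j + 1)))) := by
        rw [show A + ((j' + 1) + (B + (j + 1))) = (A + B + 2) + (j + j') by ring]
        exact ((hA.add hB).add even_two).add_odd hsum
      have e2 : OddPer (z' * y) e := ⟨_, hodd, by rw [pow_add_apply, e4, hAe]⟩
      exact ⟨e2, e4 ▸ e2.pow_apply _⟩
  obtain ⟨pe, pa1⟩ := hbase
  have pa2 : OddPer (z' * y) a2 := h2 ▸ pe.apply_inv hzz' hy
  have pd : OddPer (z' * y) d := by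
    have h : z' a1 = d := by rw [← h1, ← Equiv.Perm.mul_apply, hzz', Equiv.Perm.one_apply]
    exact h ▸ pa1.apply_inv hzz' hy
  have h3' : z' b2 = b1 := by rw [← h3, ← Equiv.Perm.mul_apply, hzz', Equiv.Perm.one_apply]
  obtain ⟨pb1, pb2⟩ : OddPer (z' * y) b1 ∧ OddPer (z' * y) b2 := by
    obtain ⟨i, hi | hi⟩ := hb
    · have h := hi ▸ pa1.pow_apply i
      exact ⟨h, h3 ▸ h.apply_inv hzz' hy⟩
    · have h := hi ▸ pa1.pow_apply i
      exact ⟨h3' ▸ h.apply_inv hzz' hy, h⟩
  have ha2e : z' a2 = e := by rw [← h2, ← Equiv.Perm.mul_apply, hzz', Equiv.Perm.one_apply]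
  have ha1d : z' a1 = d := by rw [← h1, ← Equiv.Perm.mul_apply, hzz', Equiv.Perm.one_apply]
  refine transfer y z z' T hz' ?_ ?_
  · intro w hw
    rw [hTdef] at hw ⊢
    simp only [Set.mem_insert_iff, Set.mem_singleton_iff] at hw ⊢
    rcases hw with rfl | rfl | rfl | rfl | rfl | rfl
    · simp [ha1d]
    · simp [h3]
    · simp [ha2e]
    · simp [h3']
    · simp [h1]
    · simp [h2]
  · intro w hw
    rw [hTdef] at hw
    simp only [Set.mem_insert_iff, Set.mem_singleton_iff] at hw
    rcases hw with rfl | rfl | rfl | rfl | rfl | rfl <;> assumption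

/-- Attach a 2-cycle of z to the path through the fixed point f. -/
theorem attach_fixed (y z z' : Equiv.Perm α) (T : Set α) (hz' : ∀ w, w ∉ T → z' w = z w)
    (f a b : α) (hzf : z f = f) (hTdef : T = {f, a, b})
    (havoid : ∀ i, y (((z * y) ^ i) f) ∈ T → y (((z * y) ^ i) f) = f)
    (hf : OddPer (z * y) f) (h1 : z' f = b) (h2 : z' b = f) (h3 : z' a = a)
    (A B : ℕ) (hAB : Even (B + A)) (hA : ((z' * y) ^ A) b = a) (hB : ((z' * y) ^ B) a = f) :
    ∀ u, (OddPer (z * y) u ∨ ∃ i, y (((z * y) ^ i) u) ∈ T) → OddPer (z' * y) u := by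
  classical
  obtain ⟨k, hk, hkf⟩ := hf
  have hex : ∃ i, y (((z * y) ^ i) f) = f := by
    refine ⟨k - 1, z.injective ?_⟩
    rw [← Equiv.Perm.mul_apply z y, ← pow_succ_apply, Nat.sub_add_cancel hk.pos, hkf, hzf]
  set j := Nat.find hex with hj
  have hmin : ∀ i, i < j → y (((z * y) ^ i) f) ∉ T := fun i hi h =>
    Nat.find_min hex hi (havoid i h)
  have hjf := Nat.find_spec hex
  have hj_even : Even j := by
    by_contra hne
    rw [Nat.not_even_iff_odd] at hne
    have hP : ((z * y) ^ (j + 1)) f = f := by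
      rw [pow_succ_apply, Equiv.Perm.mul_apply, hjf, hzf]
    have hP2 : Even (j + 1) := hne.add_one
    have hr : ((z * y) ^ (k % (j + 1))) f = f := by
      conv_rhs => rw [← hkf, ← Nat.mod_add_div k (j + 1), pow_add_apply, pow_fix_mul _ hP]
    have hrodd : Odd (k % (j + 1)) := by
      rw [Nat.odd_iff, Nat.mod_mod_of_dvd _ (even_iff_two_dvd.1 hP2), ← Nat.odd_iff]
      exact hk
    have hlt : k % (j + 1) < j + 1 := Nat.mod_lt k (Nat.succ_pos j)
    refine Nat.find_min hex (show k % (j + 1) - 1 < j by have := hrodd.pos; omega) (z.injective ?_)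
    rw [← Equiv.Perm.mul_apply z y, ← pow_succ_apply, Nat.sub_add_cancel hrodd.pos, hr, hzf]
  have e1 : ((z' * y) ^ (j + 1)) f = b := h1 ▸ walk y z z' T hz' f f j hmin hjf
  have pf : OddPer (z' * y) f := ⟨B + (A + (j + 1)), by
    rw [show B + (A + (j + 1)) = (B + A) + (j + 1) by ring]
    exact hAB.add_odd hj_even.add_one, by rw [pow_add_apply, pow_add_apply, e1, hA, hB]⟩
  have pb : OddPer (z' * y) b := e1 ▸ pf.pow_apply _
  have pa : OddPer (z' * y) a := hA ▸ pb.pow_apply _
  refine transfer y z z' T hz' ?_ ?_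
  · intro w hw
    rw [hTdef] at hw ⊢
    simp only [Set.mem_insert_iff, Set.mem_singleton_iff] at hw ⊢
    rcases hw with rfl | rfl | rfl <;> simp [h1, h2, h3]
  · intro w hw
    rw [hTdef] at hw
    simp only [Set.mem_insert_iff, Set.mem_singleton_iff] at hw
    rcases hw with rfl | rfl | rfl <;> assumption

end Cfsg.Agent.InvGraph
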