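import Mathlib
import Cfsg.Agent.Lib.InvGraph.Surgery

/-!
Orbits of the product of two involutive permutations.
-/

set_option autoImplicit false

namespace Cfsg.Agent.InvGraph

variable {α : Type*} [Finite α]

/-- The period of a point. -/
noncomputable def per (c : Equiv.Perm α) (p : α) : ℕ := MulAction.period c p

theorem per_pos (c : Equiv.Perm α) (p : α) : 0 < per c p :=
  MulAction.period_pos_of_orderOf_pos (orderOf_pos c) p

theorem pow_apply_eq_iff (c : Equiv.Perm α) (p : α) (i : ℕ) :
    (c ^ i) p = p ↔ per c p ∣ i :=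
  MulAction.pow_smul_eq_iff_period_dvd (m := c) (a := p)

theorem pow_per (c : Equiv.Perm α) (p : α) : (c ^ per c p) p = p :=
  (pow_apply_eq_iff c p _).2 dvd_rfl

theorem pow_inj_of_lt (c : Equiv.Perm α) (p : α) {i l : ℕ} (hi : i < per c p) (hl : l < per c p)
    (h : (c ^ i) p = (c ^ l) p) : i = l := by
  wlog hle : i ≤ l generalizing i l
  · exact (this hl hi h.symm (le_of_not_ge hle)).symm
  have : (c ^ (l - i)) p = p := (c ^ i).injective (by
    rw [← pow_add_apply, Nat.add_sub_cancel' hle, h])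
  have := Nat.eq_zero_of_dvd_of_lt ((pow_apply_eq_iff c p _).1 this) (by omega)
  omega

theorem oddPer_iff (c : Equiv.Perm α) (p : α) : OddPer c p ↔ Odd (per c p) := by
  constructor
  · rintro ⟨k, hk, h⟩
    exact hk.of_dvd_nat ((pow_apply_eq_iff c p k).1 h)
  · exact fun h => ⟨_, h, pow_per c p⟩

theorem per_pow_apply (c : Equiv.Perm α) (p : α) (i : ℕ) : per c ((c ^ i) p) = per c p := by
  apply Nat.dvd_antisymm
  · rw [← pow_apply_eq_iff, ← pow_add_apply, add_comm, pow_add_apply, pow_per]
  · rw [← pow_apply_eq_iff]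
    apply (c ^ i).injective
    rw [← pow_add_apply, add_comm, pow_add_apply, pow_per]

/-- Orbits are disjoint or equal. -/
theorem exists_pow_of_meet (c : Equiv.Perm α) (p q : α) {i l : ℕ}
    (h : (c ^ i) p = (c ^ l) q) : ∃ n, q = (c ^ n) p := by
  refine ⟨(per c q - 1) * l + i, ?_⟩
  rw [pow_add_apply, h, ← pow_add_apply]
  symm
  rw [pow_apply_eq_iff]
  refine ⟨l, ?_⟩
  have := per_pos c q
  rw [show per c q * l = ((per c q - 1) + 1) * l by rw [Nat.sub_add_cancel this]]
  ring

variable {x y : Equiv.Perm α}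

theorem invol_apply (hx : x * x = 1) (p : α) : x (x p) = p := by
  rw [← Equiv.Perm.mul_apply, hx, Equiv.Perm.one_apply]

theorem rev_left (hx : x * x = 1) (hy : y * y = 1) (i : ℕ) (p : α) :
    ((x * y) ^ i) (x (((x * y) ^ i) p)) = x p := by
  induction i generalizing p with
  | zero => simp
  | succ i ih =>
    rw [pow_succ_apply _ i p, pow_add_apply _ i 1, pow_one, Equiv.Perm.mul_apply,
      Equiv.Perm.mul_apply, invol_apply hx, invol_apply hy, ih]

theorem rev_right (hx : x * x = 1) (hy : y * y = 1) (i : ℕ) (p : α) :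
    ((x * y) ^ i) (y (((x * y) ^ i) p)) = y p := by
  induction i generalizing p with
  | zero => simp
  | succ i ih =>
    rw [pow_succ_apply _ i p, pow_add_apply _ i 1, pow_one, Equiv.Perm.mul_apply,
      Equiv.Perm.mul_apply, invol_apply hy, invol_apply hx, ih]

theorem per_left (hx : x * x = 1) (hy : y * y = 1) (p : α) :
    per (x * y) (x p) = per (x * y) p := by
  have key : ∀ q, per (x * y) (x q) ∣ per (x * y) q := fun q => by
    rw [← pow_apply_eq_iff]
    have := rev_left hx hy (per (x * y) q) q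
    rwa [pow_per] at this
  refine Nat.dvd_antisymm (key p) ?_
  have := key (x p)
  rwa [invol_apply hx] at this

/-- An involution r reversing c fixes just two points of an even orbit through a fixed point. -/
theorem fixed_in_orbit {c r : Equiv.Perm α} (hr : ∀ i p, (c ^ i) (r ((c ^ i) p)) = r p) (f : α)
    (hf : r f = f) (heven : Even (per c f)) (q : α) :
    ((∃ i, q = (c ^ i) f) ∧ r q = q) ↔ (q = f ∨ q = (c ^ (per c f / 2)) f) := by
  obtain ⟨k, hk⟩ := heven
  have hk' : per c f / 2 = k := by omega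
  rw [hk']
  constructor
  · rintro ⟨⟨i, rfl⟩, hq⟩
    have h := hr i f
    rw [hq, ← pow_add_apply, hf] at h
    obtain ⟨d, hd⟩ := (pow_apply_eq_iff c f _).1 h
    have hi : i = k * d := by
      rw [hk, add_mul] at hd; omega
    rcases Nat.even_or_odd d with ⟨e, he⟩ | ⟨e, he⟩
    · left
      rw [hi, he, show k * (e + e) = per c f * e by rw [hk]; ring, pow_fix_mul _ (pow_per c f)]
    · right
      rw [hi, he, show k * (2 * e + 1) = k + per c f * e by rw [hk]; ring, pow_add_apply,
        pow_fix_mul _ (pow_per c f)]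
  · rintro (rfl | rfl)
    · exact ⟨⟨0, by simp⟩, hf⟩
    · refine ⟨⟨k, rfl⟩, (c ^ k).injective ?_⟩
      rw [hr, hf, ← pow_add_apply, ← hk, pow_per]

/-- A point whose orbit is even and free of fixed points. -/
def IsCyc (x y : Equiv.Perm α) (a : α) : Prop :=
  Even (per (x * y) a) ∧ ∀ i : ℕ, x (((x * y) ^ i) a) ≠ ((x * y) ^ i) a ∧
    y (((x * y) ^ i) a) ≠ ((x * y) ^ i) a

/-- The mirror orbit of a cyclic point is another one. -/
theorem IsCyc.disjoint (hx : x * x = 1) (hy : y * y = 1) {a : α} (h : IsCyc x y a) (i l : ℕ) :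
    ((x * y) ^ i) a ≠ ((x * y) ^ l) (x a) := by
  intro e
  obtain ⟨n, hn⟩ := exists_pow_of_meet _ _ _ e
  rcases Nat.even_or_odd n with ⟨k, hk⟩ | ⟨k, hk⟩
  · refine (h.2 k).1 (((x * y) ^ k).injective ?_)
    rw [rev_left hx hy, hn, hk, pow_add_apply]
  · have e1 : x (((x * y) ^ k) a) = ((x * y) ^ (k + 1)) a := by
      refine ((x * y) ^ k).injective ?_
      rw [rev_left hx hy, hn, hk, ← pow_add_apply]
      congr 2; ring
    apply (h.2 k).2
    rw [pow_succ_apply, Equiv.Perm.mul_apply] at e1
    exact (x.injective e1).symm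

theorem IsCyc.two_le {a : α} (h : IsCyc x y a) : 2 ≤ per (x * y) a := by
  obtain ⟨k, hk⟩ := h.1
  have := per_pos (x * y) a
  omega

end Cfsg.Agent.InvGraph
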