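import Mathlib
import Cfsg.Agent.Lib.InvGraph.Orbit

/-!
The moves building a common neighbour of two involutive permutations orbit by orbit.
-/

set_option autoImplicit false

namespace Cfsg.Agent.InvGraph

variable {α : Type*} [Finite α] [DecidableEq α]

/-- z is a common neighbour of x and y on the invariant set R. -/
structure Sol (x y : Equiv.Perm α) (R : Set α) (z : Equiv.Perm α) : Prop where
  sq : z * z = 1
  conj : IsConj x z
  off : ∀ p, p ∉ R → z p = x p
  left : ∀ p ∈ R, OddPer (z * x) p
  right : ∀ p ∈ R, OddPer (z * y) p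

variable {x y : Equiv.Perm α}

theorem conj_sq {z : Equiv.Perm α} (hz : z * z = 1) (s : Equiv.Perm α) :
    (s * z * s⁻¹) * (s * z * s⁻¹) = 1 := by
  rw [show (s * z * s⁻¹) * (s * z * s⁻¹) = s * (z * z) * s⁻¹ by group, hz]; group

theorem isConj_conj (z s : Equiv.Perm α) : IsConj z (s * z * s⁻¹) := isConj_iff.2 ⟨s, rfl⟩

theorem conj_apply_apply (z s : Equiv.Perm α) (p : α) : (s * z * s⁻¹) (s p) = s (z p) := by
  simp

theorem conj_off (z s : Equiv.Perm α) (T : Set α) (hs : ∀ p, p ∉ T → s p = p)
    (hzT : ∀ p, p ∉ T → z p ∉ T) (p : α) (hp : p ∉ T) : (s * z * s⁻¹) p = z p := by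
  conv_lhs => rw [← hs p hp, conj_apply_apply, hs _ (hzT p hp)]

/-- The union of the orbit of a and of its mirror. -/
def InC (x y : Equiv.Perm α) (a q : α) : Prop :=
  ∃ i : ℕ, q = ((x * y) ^ i) a ∨ q = ((x * y) ^ i) (x a)

section

variable (hx : x * x = 1) (hy : y * y = 1)
include hx hy

theorem x_orbit (p : α) (i : ℕ) : ∃ l, x (((x * y) ^ i) p) = ((x * y) ^ l) (x p) := by
  obtain ⟨n, hn⟩ := exists_pow_of_meet (x * y) (x p) (x (((x * y) ^ i) p)) (i := 0) (l := i)
    (by rw [rev_left hx hy]; rfl)
  exact ⟨n, hn⟩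

theorem y_base (p : α) : y p = ((x * y) ^ (per (x * y) (x p) - 1)) (x p) := by
  apply (x * y).injective
  rw [← pow_succ_apply, Nat.sub_add_cancel (per_pos _ _), pow_per, Equiv.Perm.mul_apply,
    invol_apply hy]

theorem y_orbit (p : α) (i : ℕ) : ∃ l, y (((x * y) ^ i) p) = ((x * y) ^ l) (x p) := by
  obtain ⟨n, hn⟩ := exists_pow_of_meet (x * y) (x p) (y (((x * y) ^ i) p))
    (i := per (x * y) (x p) - 1) (l := i)
    (by rw [rev_right hx hy, ← y_base hx hy])
  exact ⟨n, hn⟩

theorem inC_x {a q : α} (h : InC x y a q) : InC x y a (x q) := by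
  obtain ⟨i, rfl | rfl⟩ := h
  · obtain ⟨l, hl⟩ := x_orbit hx hy a i; exact ⟨l, Or.inr hl⟩
  · obtain ⟨l, hl⟩ := x_orbit hx hy (x a) i
    rw [invol_apply hx] at hl; exact ⟨l, Or.inl hl⟩

theorem inC_y {a q : α} (h : InC x y a q) : InC x y a (y q) := by
  obtain ⟨i, rfl | rfl⟩ := h
  · obtain ⟨l, hl⟩ := y_orbit hx hy a i; exact ⟨l, Or.inr hl⟩
  · obtain ⟨l, hl⟩ := y_orbit hx hy (x a) i
    rw [invol_apply hx] at hl; exact ⟨l, Or.inl hl⟩

theorem IsCyc.mirror {a : α} (h : IsCyc x y a) : IsCyc x y (x a) := by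
  refine ⟨by rw [per_left hx hy]; exact h.1, fun i => ⟨fun e => ?_, fun e => ?_⟩⟩
  · obtain ⟨l, hl⟩ := x_orbit hx hy (x a) i
    rw [invol_apply hx, e] at hl
    exact h.disjoint hx hy l i hl.symm
  · obtain ⟨l, hl⟩ := x_orbit hx hy (x a) i
    rw [invol_apply hx] at hl
    have : ((x * y) ^ (i + 1)) (x a) = ((x * y) ^ l) a := by
      rw [pow_succ_apply, Equiv.Perm.mul_apply, e, hl]
    exact h.disjoint hx hy l (i + 1) this.symm

theorem inC_no_fix {a q : α} (h : IsCyc x y a) (hq : InC x y a q) : x q ≠ q ∧ y q ≠ q := by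
  obtain ⟨i, rfl | rfl⟩ := hq
  · exact h.2 i
  · exact (h.mirror hx hy).2 i

/-- Attach a cyclic orbit pair to a solution. -/
theorem attach {R : Set α} (hRx : ∀ p ∈ R, x p ∈ R) (hRy : ∀ p ∈ R, y p ∈ R)
    {z : Equiv.Perm α} (hz : Sol x y R z) (hne : R.Nonempty) {a : α} (ha : IsCyc x y a)
    (hdisj : ∀ q, InC x y a q → q ∉ R) :
    ∃ z', Sol x y (R ∪ {q | InC x y a q}) z' := by
  classical
  set c := x * y with hc
  set m := per c a with hm
  have hm2 : 2 ≤ m := ha.two_le
  have hmev : Even m := ha.1
  have hmb : per c (x a) = m := per_left hx hy a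
  have hzR : ∀ p ∈ R, z p ∈ R := by
    intro p hp
    by_contra hn
    have h1 := hz.off _ hn
    rw [invol_apply hz.sq] at h1
    apply hn
    have := hRx p hp
    rw [h1, invol_apply hx] at this
    exact this
  have hya : y a = (c ^ (m - 1)) (x a) := by rw [hc, y_base hx hy, ← hc, hmb]
  have hyb : y (x a) = (c ^ (m - 1)) a := by rw [hc, y_base hx hy, invol_apply hx]
  have hfollow : ∀ q, InC x y a q → ∀ i, ((z * y) ^ i) q = (c ^ i) q := by
    intro q hq i
    refine follow y x z R hz.off q i fun k _ => hdisj _ (inC_y hx hy ?_)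
    obtain ⟨l, rfl | rfl⟩ := hq
    · exact ⟨k + l, Or.inl (pow_add_apply _ k l a).symm⟩
    · exact ⟨k + l, Or.inr (pow_add_apply _ k l _).symm⟩
  -- every point of the new part meets a or its mirror
  have hhit : ∀ q, InC x y a q → ∃ i, y (((z * y) ^ i) q) = a ∨ y (((z * y) ^ i) q) = x a := by
    intro q hq
    obtain ⟨n, hn⟩ := hq
    refine ⟨(m - 1) + (m - 1) * n, ?_⟩
    rw [hfollow q ⟨n, hn⟩]
    have e : (m - 1) + (m - 1) * n + n = (m - 1) + m * n := by
      rw [add_assoc, ← Nat.succ_mul, Nat.succ_eq_add_one, Nat.sub_add_cancel (by omega)]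
    rcases hn with rfl | rfl
    · right
      rw [← hc, ← pow_add_apply, e, pow_add_apply, pow_fix_mul _ (pow_per c a), ← hyb,
        invol_apply hy]
    · left
      rw [← hc, ← pow_add_apply, e, pow_add_apply,
        pow_fix_mul _ (show (c ^ m) (x a) = x a by rw [← hmb]; exact pow_per c _), ← hya,
        invol_apply hy]
  have hCleft : ∀ q, InC x y a q → OddPer (z * x) q := fun q hq =>
    ⟨1, odd_one, by rw [pow_one, Equiv.Perm.mul_apply, hz.off _ (hdisj _ (inC_x hx hy hq)),
      invol_apply hx]⟩
  have hCa : InC x y a a := ⟨0, Or.inl rfl⟩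
  have hCb : InC x y a (x a) := ⟨0, Or.inr rfl⟩
  by_cases hfix : ∃ f ∈ R, z f = f
  · obtain ⟨f, hf, hzf⟩ := hfix
    set b := x a with hb
    set s := Equiv.swap f a with hs
    set z' := s * z * s⁻¹ with hz'def
    have hfa : f ≠ a := fun e => hdisj a hCa (e ▸ hf)
    have hfb : f ≠ b := fun e => hdisj b hCb (e ▸ hf)
    have hab : a ≠ b := fun e => (ha.2 0).1 (by simpa using e.symm)
    have hza : z a = b := hz.off a (hdisj a hCa)
    have hzb : z b = a := by rw [← hza, invol_apply hz.sq]
    have h1 : z' f = b := by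
      have := conj_apply_apply z s a
      rwa [hza, hs, Equiv.swap_apply_right, Equiv.swap_apply_of_ne_of_ne hfb.symm hab.symm,
        ← hs, ← hz'def] at this
    have h3 : z' a = a := by
      have := conj_apply_apply z s f
      rwa [hzf, hs, Equiv.swap_apply_left, ← hs, ← hz'def] at this
    have hsq' : z' * z' = 1 := conj_sq hz.sq s
    have h2 : z' b = f := by rw [← h1, invol_apply hsq']
    have hzT : ∀ w, w ∈ ({f, a, b} : Set α) → z w ∈ ({f, a, b} : Set α) := by
      simp only [Set.mem_insert_iff, Set.mem_singleton_iff]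
      rintro w (rfl | rfl | rfl)
      · exact Or.inl hzf
      · exact Or.inr (Or.inr hza)
      · exact Or.inr (Or.inl hzb)
    have hoff : ∀ w, w ∉ ({f, a, b} : Set α) → z' w = z w := by
      refine conj_off z s _ (fun p hp => ?_) (fun p hp h => hp ?_)
      · simp only [Set.mem_insert_iff, Set.mem_singleton_iff, not_or] at hp
        exact Equiv.swap_apply_of_ne_of_ne hp.1 hp.2.1
      · have := hzT _ h; rwa [invol_apply hz.sq] at this
    have havoid : ∀ r : Equiv.Perm α, (∀ p ∈ R, r p ∈ R) → ∀ i,
        r (((z * r) ^ i) f) ∈ ({f, a, b} : Set α) → r (((z * r) ^ i) f) = f := by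
      intro r hr i hi
      have hin : ∀ i, ((z * r) ^ i) f ∈ R := by
        intro i
        induction i with
        | zero => simpa using hf
        | succ i ih => rw [pow_succ_apply, Equiv.Perm.mul_apply]; exact hzR _ (hr _ ih)
      simp only [Set.mem_insert_iff, Set.mem_singleton_iff] at hi
      rcases hi with h | h | h
      · exact h
      · exact absurd (h ▸ hr _ (hin i)) (hdisj a hCa)
      · exact absurd (h ▸ hr _ (hin i)) (hdisj b hCb)
    have hyf := havoid y hRy
    -- the two walks
    have wy : ((z' * y) ^ m) b = a ∧ ((z' * y) ^ m) a = f := by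
      constructor
      · have := walk y z z' _ hoff b a (m - 1) (fun i hi => ?_) (by
          rw [hfollow b hCb, hb, ← hya, invol_apply hy])
        · rwa [Nat.sub_add_cancel (by omega), h3] at this
        rw [hfollow b hCb]
        simp only [Set.mem_insert_iff, Set.mem_singleton_iff]
        rintro (h | h | h)
        · exact hdisj _ (inC_y hx hy ⟨i, Or.inr rfl⟩) (h ▸ hf)
        · have e : (c ^ i) b = y a := (invol_apply hy _).symm.trans (congrArg y h)
          rw [hya] at e
          have := pow_inj_of_lt c b (by omega) (by omega) e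
          omega
        · have e : (c ^ i) b = y b := (invol_apply hy _).symm.trans (congrArg y h)
          rw [hb, hyb] at e
          exact ha.disjoint hx hy (m - 1) i e.symm
      · have := walk y z z' _ hoff a b (m - 1) (fun i hi => ?_) (by
          rw [hfollow a hCa, hb, ← hyb, invol_apply hy])
        · rwa [Nat.sub_add_cancel (by omega), h2] at this
        rw [hfollow a hCa]
        simp only [Set.mem_insert_iff, Set.mem_singleton_iff]
        rintro (h | h | h)
        · exact hdisj _ (inC_y hx hy ⟨i, Or.inl rfl⟩) (h ▸ hf)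
        · have e : (c ^ i) a = y a := (invol_apply hy _).symm.trans (congrArg y h)
          rw [hya] at e
          exact ha.disjoint hx hy i (m - 1) e
        · have e : (c ^ i) a = y b := (invol_apply hy _).symm.trans (congrArg y h)
          rw [hb, hyb] at e
          have := pow_inj_of_lt c a (by omega) (by omega) e
          omega
    have wx : ((z' * x) ^ 1) b = a ∧ ((z' * x) ^ 1) a = f := by
      rw [pow_one]
      exact ⟨show z' (x b) = a by rw [hb, invol_apply hx, h3],
        show z' (x a) = f by rw [← hb, h2]⟩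
    have P1 := attach_fixed y z z' _ hoff f a b hzf rfl hyf (hz.right f hf) h1 h2 h3 m m
      (hmev.add hmev) wy.1 wy.2
    have P2 := attach_fixed x z z' _ hoff f a b hzf rfl (havoid x hRx) (hz.left f hf) h1 h2 h3
      1 1 even_two wx.1 wx.2
    refine ⟨z', hsq', hz.conj.trans (isConj_conj z s), fun p hp => ?_, fun p hp => ?_,
      fun p hp => ?_⟩
    · simp only [Set.mem_union, Set.mem_ofPred_eq, not_or] at hp
      rw [hoff p ?_, hz.off p hp.1]
      simp only [Set.mem_insert_iff, Set.mem_singleton_iff]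
      rintro (rfl | rfl | rfl)
      · exact hp.1 hf
      · exact hp.2 hCa
      · exact hp.2 hCb
    · rcases hp with hp | hp
      · exact P2 p (Or.inl (hz.left p hp))
      · exact P2 p (Or.inl (hCleft p hp))
    · rcases hp with hp | hp
      · exact P1 p (Or.inl (hz.right p hp))
      · obtain ⟨i, hi⟩ := hhit p hp
        exact P1 p (Or.inr ⟨i, by rcases hi with h | h <;> rw [h] <;> simp⟩)
  · push Not at hfix
    obtain ⟨d, hd⟩ := hne
    set e := z d with he
    have heR : e ∈ R := hzR d hd
    have hed : e ≠ d := hfix d hd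
    set b := x a with hb
    set a2 := y b with ha2
    set b2 := x a2 with hb2
    have hCa2 : InC x y a a2 := inC_y hx hy hCb
    have hCb2 : InC x y a b2 := inC_x hx hy hCa2
    have hb2eq : b2 = (c ^ 1) b := by rw [pow_one, hc, Equiv.Perm.mul_apply]
    have hyb2 : y b2 = (c ^ (m - 2)) a := by
      apply c.injective
      rw [← pow_succ_apply, show m - 2 + 1 = m - 1 by omega, ← hyb, hc, Equiv.Perm.mul_apply,
        invol_apply hy, hb2, invol_apply hx]
    have hCR : ∀ {u v : α}, InC x y a u → v ∈ R → u ≠ v := fun hu hv e' => hdisj _ hu (e' ▸ hv)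
    have hab : a ≠ b := fun e' => (ha.2 0).1 (by simpa using e'.symm)
    have ha2a : a2 ≠ a := by
      intro e'
      rw [hyb] at e'
      have := pow_inj_of_lt c a (i := m - 1) (l := 0) (by omega) (by omega) (by simpa using e')
      omega
    have ha2b : a2 ≠ b := (inC_no_fix hx hy ha hCb).2
    have hb2a2 : b2 ≠ a2 := (inC_no_fix hx hy ha hCa2).1
    have hb2b : b2 ≠ b := fun e' => ha2a (x.injective e')
    have hb2a : b2 ≠ a := by
      intro e'
      rw [hb2eq, hb] at e'
      exact ha.disjoint hx hy 0 1 (by rw [pow_zero]; exact e'.symm)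
    set s := Equiv.swap b d * Equiv.swap d a2 with hs
    set z' := s * z * s⁻¹ with hz'def
    have hsq' : z' * z' = 1 := conj_sq hz.sq s
    have hde : d ≠ e := hed.symm
    have sa : s a = a := by
      rw [hs, Equiv.Perm.mul_apply, Equiv.swap_apply_of_ne_of_ne (hCR hCa hd) ha2a.symm,
        Equiv.swap_apply_of_ne_of_ne hab (hCR hCa hd)]
    have sb : s b = d := by
      rw [hs, Equiv.Perm.mul_apply, Equiv.swap_apply_of_ne_of_ne (hCR hCb hd) ha2b.symm,
        Equiv.swap_apply_left]
    have sa2 : s a2 = b := by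
      rw [hs, Equiv.Perm.mul_apply, Equiv.swap_apply_right, Equiv.swap_apply_right]
    have sb2 : s b2 = b2 := by
      rw [hs, Equiv.Perm.mul_apply, Equiv.swap_apply_of_ne_of_ne (hCR hCb2 hd) hb2a2,
        Equiv.swap_apply_of_ne_of_ne hb2b (hCR hCb2 hd)]
    have sd : s d = a2 := by
      rw [hs, Equiv.Perm.mul_apply, Equiv.swap_apply_left,
        Equiv.swap_apply_of_ne_of_ne ha2b (hCR hCa2 hd)]
    have se : s e = e := by
      rw [hs, Equiv.Perm.mul_apply, Equiv.swap_apply_of_ne_of_ne hed (hCR hCa2 heR).symm,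
        Equiv.swap_apply_of_ne_of_ne (hCR hCb heR).symm hed]
    have hza : z a = b := hz.off a (hdisj a hCa)
    have hza2 : z a2 = b2 := hz.off a2 (hdisj a2 hCa2)
    have hze : z e = d := by rw [he, invol_apply hz.sq]
    have z1 : z' d = a := by
      have := conj_apply_apply z s b
      rwa [← hza, invol_apply hz.sq, hza, sb, sa, ← hz'def] at this
    have z2 : z' e = a2 := by
      have := conj_apply_apply z s e
      rwa [hze, se, sd, ← hz'def] at this
    have z3 : z' b = b2 := by
      have := conj_apply_apply z s a2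
      rwa [hza2, sa2, sb2, ← hz'def] at this
    have z4 : z' a = d := by rw [← z1, invol_apply hsq']
    have z6 : z' b2 = b := by rw [← z3, invol_apply hsq']
    have z5 : z' a2 = e := by rw [← z2, invol_apply hsq']
    have hzT : ∀ w, w ∈ ({a, b, a2, b2, d, e} : Set α) →
        z w ∈ ({a, b, a2, b2, d, e} : Set α) := by
      simp only [Set.mem_insert_iff, Set.mem_singleton_iff]
      rintro w (rfl | rfl | rfl | rfl | rfl | rfl)
      · simp [hza]
      · rw [← hza, invol_apply hz.sq]; simp
      · simp [hza2]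
      · rw [← hza2, invol_apply hz.sq]; simp
      · simp [he]
      · simp [hze]
    have hoff : ∀ w, w ∉ ({a, b, a2, b2, d, e} : Set α) → z' w = z w := by
      refine conj_off z s _ (fun p hp => ?_) (fun p hp h => hp ?_)
      · simp only [Set.mem_insert_iff, Set.mem_singleton_iff, not_or] at hp
        obtain ⟨-, hp1, hp2, -, hp3, -⟩ := hp
        rw [hs, Equiv.Perm.mul_apply, Equiv.swap_apply_of_ne_of_ne hp3 hp2,
          Equiv.swap_apply_of_ne_of_ne hp1 hp3]
      · have := hzT _ h; rwa [invol_apply hz.sq] at this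
    have havoid : ∀ r : Equiv.Perm α, (∀ p ∈ R, r p ∈ R) → ∀ i,
        (r (((z * r) ^ i) e) ∈ ({a, b, a2, b2, d, e} : Set α) →
          r (((z * r) ^ i) e) = d ∨ r (((z * r) ^ i) e) = e) ∧
        (r (((z * r) ^ i) d) ∈ ({a, b, a2, b2, d, e} : Set α) →
          r (((z * r) ^ i) d) = d ∨ r (((z * r) ^ i) d) = e) := by
      intro r hr i
      have hin : ∀ u ∈ R, ∀ i, ((z * r) ^ i) u ∈ R := by
        intro u hu i
        induction i with
        | zero => simpa using hu
        | succ i ih => rw [pow_succ_apply, Equiv.Perm.mul_apply]; exact hzR _ (hr _ ih)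
      have key : ∀ w ∈ R, w ∈ ({a, b, a2, b2, d, e} : Set α) → w = d ∨ w = e := by
        intro w hw h
        simp only [Set.mem_insert_iff, Set.mem_singleton_iff] at h
        rcases h with h | h | h | h | h | h
        · exact absurd (h ▸ hw) (hdisj a hCa)
        · exact absurd (h ▸ hw) (hdisj b hCb)
        · exact absurd (h ▸ hw) (hdisj a2 hCa2)
        · exact absurd (h ▸ hw) (hdisj b2 hCb2)
        · exact Or.inl h
        · exact Or.inr h
      exact ⟨key _ (hr _ (hin e heR i)), key _ (hr _ (hin d hd i))⟩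
    -- the walks
    have wa : ((z' * y) ^ (m - 1)) a = b := by
      have := walk y z z' _ hoff a b2 (m - 2) (fun i hi => ?_) (by
        rw [hfollow a hCa, ← hyb2, invol_apply hy])
      · rwa [show m - 2 + 1 = m - 1 by omega, z6] at this
      rw [hfollow a hCa]
      simp only [Set.mem_insert_iff, Set.mem_singleton_iff]
      rintro (h | h | h | h | h | h)
      · have e' : (c ^ i) a = y a := (invol_apply hy _).symm.trans (congrArg y h)
        rw [hya] at e'
        exact ha.disjoint hx hy i (m - 1) e'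
      · have e' : (c ^ i) a = (c ^ (m - 1)) a :=
          (invol_apply hy _).symm.trans ((congrArg y h).trans (ha2.symm.trans hyb))
        have := pow_inj_of_lt c a (by omega) (by omega) e'
        omega
      · have e' : (c ^ i) a = b := by rw [← invol_apply hy ((c ^ i) a), h, ha2, invol_apply hy]
        exact ha.disjoint hx hy i 0 (by simpa [hb] using e')
      · have e' : (c ^ i) a = y b2 := (invol_apply hy _).symm.trans (congrArg y h)
        rw [hyb2] at e'
        have := pow_inj_of_lt c a (by omega) (by omega) e'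
        omega
      · exact hCR (inC_y hx hy ⟨i, Or.inl rfl⟩) hd h
      · exact hCR (inC_y hx hy ⟨i, Or.inl rfl⟩) heR h
    have wb2 : ((z' * y) ^ (m - 1)) b2 = d := by
      have := walk y z z' _ hoff b2 a (m - 2) (fun i hi => ?_) (by
        rw [hfollow b2 hCb2, hb2eq, ← pow_add_apply, show m - 2 + 1 = m - 1 by omega, hb, ← hya,
          invol_apply hy])
      · rwa [show m - 2 + 1 = m - 1 by omega, z4] at this
      rw [hfollow b2 hCb2, hb2eq, ← pow_add_apply]
      simp only [Set.mem_insert_iff, Set.mem_singleton_iff]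
      rintro (h | h | h | h | h | h)
      · have e' : (c ^ (i + 1)) b = y a := (invol_apply hy _).symm.trans (congrArg y h)
        rw [hya] at e'
        have := pow_inj_of_lt c b (by omega) (by omega) e'
        omega
      · have e' : (c ^ (i + 1)) b = (c ^ (m - 1)) a :=
          (invol_apply hy _).symm.trans ((congrArg y h).trans (ha2.symm.trans hyb))
        exact ha.disjoint hx hy (m - 1) (i + 1) e'.symm
      · have e' : (c ^ (i + 1)) b = b := by
          rw [← invol_apply hy ((c ^ (i + 1)) b), h, ha2, invol_apply hy]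
        have := pow_inj_of_lt c b (i := i + 1) (l := 0) (by omega) (by omega) (by simpa using e')
        omega
      · have e' : (c ^ (i + 1)) b = y b2 := (invol_apply hy _).symm.trans ((congrArg y h).trans (by rw [hb2eq]))
        rw [hyb2] at e'
        exact ha.disjoint hx hy (m - 2) (i + 1) e'.symm
      · exact hCR (inC_y hx hy ⟨i + 1, Or.inr rfl⟩) hd h
      · exact hCR (inC_y hx hy ⟨i + 1, Or.inr rfl⟩) heR h
    have yb : ((z' * y) ^ 1) b = e := by rw [pow_one, Equiv.Perm.mul_apply, ← ha2, z5]
    have ya2 : ((z' * y) ^ 1) a2 = b2 := by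
      rw [pow_one, Equiv.Perm.mul_apply, ha2, invol_apply hy, z3]
    have P1 := attach_edge y z z' _ hoff hz.sq hsq' hy a b a2 b2 d e hde he.symm rfl (havoid y hRy)
      (hz.right e heR) z1 z2 z3 (1 + (m - 1)) ((m - 1) + 1)
      (by rwa [Nat.add_sub_cancel' (by omega)]) (by rwa [Nat.sub_add_cancel (by omega)])
      (by rw [pow_add_apply, wa, yb]) (by rw [pow_add_apply, ya2, wb2]) ⟨m - 1, Or.inl wa⟩
    have xa : ((z' * x) ^ 1) a = b2 := by rw [pow_one, Equiv.Perm.mul_apply, ← hb, z3]
    have xb2 : ((z' * x) ^ 1) b2 = e := by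
      rw [pow_one, Equiv.Perm.mul_apply, hb2, invol_apply hx, z5]
    have xa2 : ((z' * x) ^ 1) a2 = b := by rw [pow_one, Equiv.Perm.mul_apply, ← hb2, z6]
    have xb : ((z' * x) ^ 1) b = d := by
      rw [pow_one, Equiv.Perm.mul_apply, hb, invol_apply hx, z4]
    have P2 := attach_edge x z z' _ hoff hz.sq hsq' hx a b a2 b2 d e hde he.symm rfl (havoid x hRx)
      (hz.left e heR) z1 z2 z3 (1 + 1) (1 + 1) even_two even_two
      (by rw [pow_add_apply, xa, xb2]) (by rw [pow_add_apply, xa2, xb]) ⟨1, Or.inr xa⟩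
    refine ⟨z', hsq', hz.conj.trans (isConj_conj z s), fun p hp => ?_, fun p hp => ?_,
      fun p hp => ?_⟩
    · simp only [Set.mem_union, Set.mem_ofPred_eq, not_or] at hp
      rw [hoff p ?_, hz.off p hp.1]
      simp only [Set.mem_insert_iff, Set.mem_singleton_iff]
      rintro (rfl | rfl | rfl | rfl | rfl | rfl)
      · exact hp.2 hCa
      · exact hp.2 hCb
      · exact hp.2 hCa2
      · exact hp.2 hCb2
      · exact hp.1 hd
      · exact hp.1 heR
    · rcases hp with hp | hp
      · exact P2 p (Or.inl (hz.left p hp))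
      · exact P2 p (Or.inl (hCleft p hp))
    · rcases hp with hp | hp
      · exact P1 p (Or.inl (hz.right p hp))
      · obtain ⟨i, hi⟩ := hhit p hp
        exact P1 p (Or.inr ⟨i, by rcases hi with h | h <;> rw [h] <;> simp⟩)

end

end Cfsg.Agent.InvGraph
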