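import Mathlib
import Cfsg.Agent.Lib.InvGraph.Moves

/-!
The starting configurations for a common neighbour.
-/

set_option autoImplicit false

namespace Cfsg.Agent.InvGraph

variable {α : Type*} [Finite α] [DecidableEq α] {x y : Equiv.Perm α}

theorem sol_self (hx : x * x = 1) (R : Set α) (hR : ∀ p ∈ R, OddPer (x * y) p) :
    Sol x y R x :=
  ⟨hx, IsConj.refl x, fun _ _ => rfl,
    fun p _ => ⟨1, odd_one, by rw [pow_one, hx, Equiv.Perm.one_apply]⟩, hR⟩

section

variable (hx : x * x = 1) (hy : y * y = 1)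
include hx hy

/-- A single long cycle pair. -/
theorem split {a : α} (ha : IsCyc x y a) (h4 : per (x * y) a ≠ 2) :
    ∃ z, Sol x y {q | InC x y a q} z := by
  classical
  set c := x * y with hc
  set m := per c a with hm
  have hm4 : 4 ≤ m := by
    obtain ⟨k, hk⟩ := ha.1
    have hk' : m = k + k := hk
    have := ha.two_le
    have h4' : m ≠ 2 := h4
    have : 2 ≤ m := this
    omega
  have hmb : per c (x a) = m := per_left hx hy a
  set b := x a with hb
  have hya : y a = (c ^ (m - 1)) b := by rw [hc, y_base hx hy, ← hb, ← hc, hmb]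
  have hyb : y b = (c ^ (m - 1)) a := by rw [hc, y_base hx hy, hb, invol_apply hx]
  set p3 := (c ^ (m - 1)) a with hp3
  set p4 := (c ^ 1) b with hp4
  set p5 := (c ^ (m - 2)) a with hp5
  set p6 := (c ^ 2) b with hp6
  have hx34 : x p3 = p4 := by
    rw [hp4, pow_one, ← hyb, hc, Equiv.Perm.mul_apply]
  have hy45 : y p4 = p5 := by
    rw [← hx34]
    apply c.injective
    rw [hp5, ← pow_succ_apply, show m - 2 + 1 = m - 1 by omega, ← hp3, hc, Equiv.Perm.mul_apply,
      invol_apply hy, invol_apply hx]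
  have hy23 : y b = p3 := hyb
  have hx56 : x p5 = p6 := by
    rw [← hy45, hp6, pow_succ_apply c 1, ← hp4, hc, Equiv.Perm.mul_apply]
  have ne_a : ∀ {i l : ℕ}, i < m → l < m → i ≠ l → (c ^ i) a ≠ (c ^ l) a :=
    fun hi hl hil e => hil (pow_inj_of_lt c a hi hl e)
  have ne_b : ∀ {i l : ℕ}, i < m → l < m → i ≠ l → (c ^ i) b ≠ (c ^ l) b :=
    fun hi hl hil e => hil (pow_inj_of_lt c b (by omega) (by omega) e)
  have ne_ab : ∀ i l : ℕ, (c ^ i) a ≠ (c ^ l) b := fun i l => ha.disjoint hx hy i l
  have a0 : (c ^ 0) a = a := by simp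
  have b0 : (c ^ 0) b = b := by simp
  set s := Equiv.swap b p5 * Equiv.swap p5 p4 with hs
  set z := s * x * s⁻¹ with hzdef
  have sfix : ∀ w, w ≠ b → w ≠ p5 → w ≠ p4 → s w = w := fun w h1 h2 h3 => by
    rw [hs, Equiv.Perm.mul_apply, Equiv.swap_apply_of_ne_of_ne h2 h3,
      Equiv.swap_apply_of_ne_of_ne h1 h2]
  have sa : s a = a := sfix a (by have := ne_ab 0 0; rwa [a0, b0] at this)
    (by have := ne_a (i := 0) (l := m - 2) (by omega) (by omega) (by omega); rwa [a0] at this)
    (by have := ne_ab 0 1; rwa [a0] at this)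
  have s3 : s p3 = p3 := sfix p3 (by have := ne_ab (m - 1) 0; rwa [b0] at this)
    (ne_a (by omega) (by omega) (by omega)) (ne_ab _ _)
  have s6 : s p6 = p6 := sfix p6
    (by have := ne_b (i := 2) (l := 0) (by omega) (by omega) (by omega); rwa [b0] at this)
    (fun e => ne_ab _ _ e.symm) (ne_b (by omega) (by omega) (by omega))
  have h54 : p5 ≠ p4 := ne_ab _ _
  have hb5 : b ≠ p5 := fun e => ne_ab (m - 2) 0 (by rw [b0]; exact e.symm)
  have hb4 : b ≠ p4 := by
    have := ne_b (i := 0) (l := 1) (by omega) (by omega) (by omega); rwa [b0] at this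
  have sb : s b = p5 := by
    rw [hs, Equiv.Perm.mul_apply, Equiv.swap_apply_of_ne_of_ne hb5 hb4, Equiv.swap_apply_left]
  have s5 : s p5 = p4 := by
    rw [hs, Equiv.Perm.mul_apply, Equiv.swap_apply_left,
      Equiv.swap_apply_of_ne_of_ne hb4.symm h54.symm]
  have s4 : s p4 = b := by
    rw [hs, Equiv.Perm.mul_apply, Equiv.swap_apply_right, Equiv.swap_apply_right]
  have hsq : z * z = 1 := conj_sq hx s
  have z1 : z a = p5 := by
    have := conj_apply_apply x s a; rwa [← hb, sa, sb, ← hzdef] at this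
  have z3 : z p3 = b := by
    have := conj_apply_apply x s p3; rwa [hx34, s3, s4, ← hzdef] at this
  have z6 : z p6 = p4 := by
    have := conj_apply_apply x s p6
    rwa [← hx56, invol_apply hx, hx56, s6, s5, ← hzdef] at this
  have z5 : z p5 = a := by rw [← z1, invol_apply hsq]
  have z2 : z b = p3 := by rw [← z3, invol_apply hsq]
  have z4 : z p4 = p6 := by rw [← z6, invol_apply hsq]
  set T : Set α := {a, b, p3, p4, p5, p6} with hT
  have hCT : ∀ w ∈ T, InC x y a w := by
    intro w hw
    simp only [hT, Set.mem_insert_iff, Set.mem_singleton_iff] at hw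
    rcases hw with rfl | rfl | rfl | rfl | rfl | rfl
    · exact ⟨0, Or.inl rfl⟩
    · exact ⟨0, Or.inr rfl⟩
    · exact ⟨_, Or.inl rfl⟩
    · exact ⟨_, Or.inr rfl⟩
    · exact ⟨_, Or.inl rfl⟩
    · exact ⟨_, Or.inr rfl⟩
  have hxT : ∀ w ∈ T, x w ∈ T := by
    intro w hw
    simp only [hT, Set.mem_insert_iff, Set.mem_singleton_iff] at hw ⊢
    rcases hw with rfl | rfl | rfl | rfl | rfl | rfl
    · simp [← hb]
    · simp [hb, invol_apply hx]
    · simp [hx34]
    · simp [← hx34, invol_apply hx]
    · simp [hx56]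
    · simp [← hx56, invol_apply hx]
  have hzT : ∀ w ∈ T, z w ∈ T := by
    intro w hw
    simp only [hT, Set.mem_insert_iff, Set.mem_singleton_iff] at hw ⊢
    rcases hw with rfl | rfl | rfl | rfl | rfl | rfl <;> simp [z1, z2, z3, z4, z5, z6]
  have hoff : ∀ w, w ∉ T → z w = x w := by
    refine conj_off x s T (fun p hp => ?_) (fun p hp h => hp ?_)
    · simp only [hT, Set.mem_insert_iff, Set.mem_singleton_iff, not_or] at hp
      exact sfix p hp.2.1 hp.2.2.2.2.1 hp.2.2.2.1
    · have := hxT _ h; rwa [invol_apply hx] at this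
  have hy56 : ((z * y) ^ (m - 2)) p6 = p5 := by
    have := walk y x z T hoff p6 a (m - 3) (fun i hi => ?_) (by
      rw [← hc, hp6, ← pow_add_apply, show m - 3 + 2 = m - 1 by omega, ← hya, invol_apply hy])
    · rwa [show m - 3 + 1 = m - 2 by omega, z1] at this
    rw [← hc, hp6, ← pow_add_apply]
    intro hw
    have e : ∀ {w : α}, y ((c ^ (i + 2)) b) = w → (c ^ (i + 2)) b = y w :=
      fun h => (invol_apply hy _).symm.trans (congrArg y h)
    simp only [hT, Set.mem_insert_iff, Set.mem_singleton_iff] at hw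
    rcases hw with h | h | h | h | h | h
    · have e' := e h
      rw [hya] at e'
      exact ne_b (by omega) (by omega) (by omega) e'
    · have e' := e h
      rw [hyb] at e'
      exact ne_ab _ _ e'.symm
    · have e' := e h
      rw [← hy23, invol_apply hy, ← b0, ← pow_add_apply] at e'
      exact ne_b (by omega) (by omega) (by omega) e'
    · have e' := e h
      rw [hy45] at e'
      exact ne_ab _ _ e'.symm
    · have e' := e h
      rw [← hy45, invol_apply hy] at e'
      exact ne_b (by omega) (by omega) (by omega) e'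
    · have hh : InC x y a ((c ^ (i + 2)) b) := ⟨_, Or.inr rfl⟩
      obtain ⟨l, hl⟩ := y_orbit hx hy b (i + 2)
      rw [hb, invol_apply hx] at hl
      exact ne_ab l 2 (hl.symm.trans h)
  have e5 : ((z * y) ^ 1) p5 = p6 := by
    rw [pow_one]; show z (y p5) = p6
    rw [← hy45, invol_apply hy, z4]
  have o5 : OddPer (z * y) p5 := ⟨(m - 2) + 1, by
      obtain ⟨k, hk⟩ := ha.1
      have hk' : m = k + k := hk
      exact ⟨k - 1, by omega⟩, by rw [pow_add_apply, e5, hy56]⟩
  have o6 : OddPer (z * y) p6 := e5 ▸ o5.pow_apply 1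
  have o3 : OddPer (z * y) p3 := ⟨1, odd_one, by
    rw [pow_one]; show z (y p3) = p3
    rw [← hy23, invol_apply hy, z2, hy23]⟩
  have oT : ∀ w ∈ T, OddPer (z * y) w := by
    intro w hw
    simp only [hT, Set.mem_insert_iff, Set.mem_singleton_iff] at hw
    rcases hw with rfl | rfl | rfl | rfl | rfl | rfl
    · exact z5 ▸ o5.apply_inv hsq hy
    · exact z3 ▸ o3.apply_inv hsq hy
    · exact o3
    · exact z6 ▸ o6.apply_inv hsq hy
    · exact o5
    · exact o6
  have x1 : ((z * x) ^ 1) a = p3 := by rw [pow_one]; show z (x a) = p3; rw [← hb, z2]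
  have x2 : ((z * x) ^ 1) p3 = p6 := by rw [pow_one]; show z (x p3) = p6; rw [hx34, z4]
  have x3 : ((z * x) ^ 1) p6 = a := by
    rw [pow_one]; show z (x p6) = a
    rw [← hx56, invol_apply hx, z5]
  have q1 : OddPer (z * x) a := ⟨1 + (1 + 1), by decide, by
    rw [pow_add_apply _ 1 (1 + 1), pow_add_apply _ 1 1, x1, x2, x3]⟩
  have q3 : OddPer (z * x) p3 := x1 ▸ q1.pow_apply 1
  have q6 : OddPer (z * x) p6 := x2 ▸ q3.pow_apply 1
  have qT : ∀ w ∈ T, OddPer (z * x) w := by
    intro w hw
    simp only [hT, Set.mem_insert_iff, Set.mem_singleton_iff] at hw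
    rcases hw with rfl | rfl | rfl | rfl | rfl | rfl
    · exact q1
    · exact z3 ▸ q3.apply_inv hsq hx
    · exact q3
    · exact z6 ▸ q6.apply_inv hsq hx
    · exact z1 ▸ q1.apply_inv hsq hx
    · exact q6
  refine ⟨z, hsq, isConj_conj x s, fun p hp => hoff p fun h => hp (hCT p h), fun p _ => ?_,
    fun p hp => ?_⟩
  · exact transfer x x z T hoff hzT qT p (Or.inl ⟨1, odd_one, by rw [pow_one, hx]; rfl⟩)
  · obtain ⟨n, hn⟩ := hp
    refine transfer y x z T hoff hzT oT p (Or.inr ⟨(m - 1) + (m - 1) * n, ?_⟩)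
    have e : (m - 1) + (m - 1) * n + n = (m - 1) + m * n := by
      rw [add_assoc, ← Nat.succ_mul, Nat.succ_eq_add_one, Nat.sub_add_cancel (by omega)]
    rcases hn with rfl | rfl
    · rw [← hc, ← pow_add_apply, e, pow_add_apply, pow_fix_mul _ (pow_per c a), ← hp3, ← hyb,
        invol_apply hy]
      simp [hT]
    · rw [← hc, ← hb, ← pow_add_apply, e, pow_add_apply,
        pow_fix_mul _ (show (c ^ m) b = b by rw [← hmb]; exact pow_per c _), ← hya, invol_apply hy]
      simp [hT]

/-- Two cycle pairs, the first one of length two. -/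
theorem double {a a' : α} (ha : IsCyc x y a) (h2 : per (x * y) a = 2) (ha' : IsCyc x y a')
    (hd : ∀ q, InC x y a q → ¬ InC x y a' q) :
    ∃ z, Sol x y ({q | InC x y a q} ∪ {q | InC x y a' q}) z := by
  classical
  set c := x * y with hc
  set m := per c a' with hm
  have hm2 : 2 ≤ m := ha'.two_le
  set b := x a with hb
  set b' := x a' with hb'
  have hmb : per c b = 2 := (per_left hx hy a).trans h2
  have hmb' : per c b' = m := per_left hx hy a'
  have hya : y a = (c ^ 1) b := by rw [hc, y_base hx hy, ← hb, ← hc, hmb]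
  have hyb : y b = (c ^ 1) a := by rw [hc, y_base hx hy, hb, invol_apply hx, ← hc, h2]
  have hya' : y a' = (c ^ (m - 1)) b' := by rw [hc, y_base hx hy, ← hb', ← hc, hmb']
  have hyb' : y b' = (c ^ (m - 1)) a' := by rw [hc, y_base hx hy, hb', invol_apply hx]
  set a2 := y b with ha2
  set b2 := y a with hb2
  have hx22 : x a2 = b2 := by
    rw [hya, pow_one, hc, Equiv.Perm.mul_apply, ha2]
  have hCa : InC x y a a := ⟨0, Or.inl rfl⟩
  have hCb : InC x y a b := ⟨0, Or.inr rfl⟩
  have hCa2 : InC x y a a2 := inC_y hx hy hCb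
  have hCb2 : InC x y a b2 := inC_y hx hy hCa
  have hCa' : InC x y a' a' := ⟨0, Or.inl rfl⟩
  have hCb' : InC x y a' b' := ⟨0, Or.inr rfl⟩
  have cross : ∀ {u v : α}, InC x y a u → InC x y a' v → u ≠ v :=
    fun hu hv e => hd _ hu (e ▸ hv)
  have hab : a ≠ b := fun e => (inC_no_fix hx hy ha hCa).1 e.symm
  have hba2 : b ≠ a2 := fun e => (inC_no_fix hx hy ha hCb).2 e.symm
  have hab2 : a ≠ b2 := fun e => (inC_no_fix hx hy ha hCa).2 e.symm
  have ha2b2 : a2 ≠ b2 := fun e => (inC_no_fix hx hy ha hCa2).1 (hx22.trans e.symm)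
  have haa2 : a ≠ a2 := by
    intro e
    have := pow_inj_of_lt c a (i := 0) (l := 1) (by omega) (by omega) (by simpa using e.trans hyb)
    omega
  have hbb2 : b ≠ b2 := fun e => haa2 (x.injective (e.trans hx22.symm))
  have ha'b' : a' ≠ b' := fun e => (inC_no_fix hx hy ha' hCa').1 e.symm
  set s := Equiv.swap a b * (Equiv.swap b a2 * Equiv.swap b2 a') with hs
  set z := s * x * s⁻¹ with hzdef
  have sa : s a = b := by
    rw [hs, Equiv.Perm.mul_apply, Equiv.Perm.mul_apply,
      Equiv.swap_apply_of_ne_of_ne hab2 (cross hCa hCa'),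
      Equiv.swap_apply_of_ne_of_ne hab haa2, Equiv.swap_apply_left]
  have sb : s b = a2 := by
    rw [hs, Equiv.Perm.mul_apply, Equiv.Perm.mul_apply,
      Equiv.swap_apply_of_ne_of_ne hbb2 (cross hCb hCa'), Equiv.swap_apply_left,
      Equiv.swap_apply_of_ne_of_ne haa2.symm hba2.symm]
  have sa2 : s a2 = a := by
    rw [hs, Equiv.Perm.mul_apply, Equiv.Perm.mul_apply,
      Equiv.swap_apply_of_ne_of_ne ha2b2 (cross hCa2 hCa'), Equiv.swap_apply_right,
      Equiv.swap_apply_right]
  have sb2 : s b2 = a' := by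
    rw [hs, Equiv.Perm.mul_apply, Equiv.Perm.mul_apply, Equiv.swap_apply_left,
      Equiv.swap_apply_of_ne_of_ne (cross hCb hCa').symm (cross hCa2 hCa').symm,
      Equiv.swap_apply_of_ne_of_ne (cross hCa hCa').symm (cross hCb hCa').symm]
  have sa' : s a' = b2 := by
    rw [hs, Equiv.Perm.mul_apply, Equiv.Perm.mul_apply, Equiv.swap_apply_right,
      Equiv.swap_apply_of_ne_of_ne hbb2.symm ha2b2.symm,
      Equiv.swap_apply_of_ne_of_ne hab2.symm hbb2.symm]
  have sfix : ∀ w, w ≠ a → w ≠ b → w ≠ a2 → w ≠ b2 → w ≠ a' → s w = w := by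
    intro w h1 h2 h3 h4 h5
    rw [hs, Equiv.Perm.mul_apply, Equiv.Perm.mul_apply, Equiv.swap_apply_of_ne_of_ne h4 h5,
      Equiv.swap_apply_of_ne_of_ne h2 h3, Equiv.swap_apply_of_ne_of_ne h1 h2]
  have sb' : s b' = b' := sfix b' (cross hCa hCb').symm (cross hCb hCb').symm
    (cross hCa2 hCb').symm (cross hCb2 hCb').symm ha'b'.symm
  have hsq : z * z = 1 := conj_sq hx s
  have zb : z b = a2 := by
    have := conj_apply_apply x s a; rwa [← hb, sa, sb, ← hzdef] at this
  have za : z a = a' := by
    have := conj_apply_apply x s a2; rwa [hx22, sa2, sb2, ← hzdef] at this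
  have zb2 : z b2 = b' := by
    have := conj_apply_apply x s a'; rwa [← hb', sa', sb', ← hzdef] at this
  have za2 : z a2 = b := by rw [← zb, invol_apply hsq]
  have za' : z a' = a := by rw [← za, invol_apply hsq]
  have zb' : z b' = b2 := by rw [← zb2, invol_apply hsq]
  set T : Set α := {a, b, a2, b2, a', b'} with hT
  have hxT : ∀ w ∈ T, x w ∈ T := by
    intro w hw
    simp only [hT, Set.mem_insert_iff, Set.mem_singleton_iff] at hw ⊢
    rcases hw with rfl | rfl | rfl | rfl | rfl | rfl
    · simp [← hb]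
    · simp [hb, invol_apply hx]
    · simp [hx22]
    · simp [← hx22, invol_apply hx]
    · simp [← hb']
    · simp [hb', invol_apply hx]
  have hzT : ∀ w ∈ T, z w ∈ T := by
    intro w hw
    simp only [hT, Set.mem_insert_iff, Set.mem_singleton_iff] at hw ⊢
    rcases hw with rfl | rfl | rfl | rfl | rfl | rfl <;> simp [za, zb, za2, zb2, za', zb']
  have hoff : ∀ w, w ∉ T → z w = x w := by
    refine conj_off x s T (fun p hp => ?_) (fun p hp h => hp ?_)
    · simp only [hT, Set.mem_insert_iff, Set.mem_singleton_iff, not_or] at hp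
      exact sfix p hp.1 hp.2.1 hp.2.2.1 hp.2.2.2.1 hp.2.2.2.2.1
    · have := hxT _ h; rwa [invol_apply hx] at this
  have ea : ((z * y) ^ 1) a = b' := by rw [pow_one]; show z (y a) = b'; rw [← hb2, zb2]
  have eb' : ((z * y) ^ m) b' = a := by
    have := walk y x z T hoff b' a' (m - 1) (fun i hi => ?_) (by
      rw [← hc, ← hya', invol_apply hy])
    · rwa [Nat.sub_add_cancel (by omega), za'] at this
    have hCi : InC x y a' ((c ^ i) b') := ⟨i, Or.inr rfl⟩
    have hCy : InC x y a' (y ((c ^ i) b')) := inC_y hx hy hCi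
    rw [← hc]
    intro hw
    simp only [hT, Set.mem_insert_iff, Set.mem_singleton_iff] at hw
    rcases hw with h | h | h | h | h | h
    · exact cross hCa hCy h.symm
    · exact cross hCb hCy h.symm
    · exact cross hCa2 hCy h.symm
    · exact cross hCb2 hCy h.symm
    · have e : (c ^ i) b' = y a' := (invol_apply hy _).symm.trans (congrArg y h)
      rw [hya'] at e
      have := pow_inj_of_lt c b' (by omega) (by omega) e
      omega
    · have e : (c ^ i) b' = y b' := (invol_apply hy _).symm.trans (congrArg y h)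
      rw [hyb'] at e
      exact ha'.disjoint hx hy (m - 1) i e.symm
  have oa : OddPer (z * y) a := ⟨m + 1, (show Even m from ha'.1).add_one, by
    rw [pow_add_apply, ea, eb']⟩
  have ob' : OddPer (z * y) b' := ea ▸ oa.pow_apply 1
  have oa2 : OddPer (z * y) a2 := ⟨1, odd_one, by
    rw [pow_one]; show z (y a2) = a2
    rw [ha2, invol_apply hy, zb]⟩
  have oT : ∀ w ∈ T, OddPer (z * y) w := by
    intro w hw
    simp only [hT, Set.mem_insert_iff, Set.mem_singleton_iff] at hw
    rcases hw with rfl | rfl | rfl | rfl | rfl | rfl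
    · exact oa
    · exact za2 ▸ oa2.apply_inv hsq hy
    · exact oa2
    · exact zb' ▸ ob'.apply_inv hsq hy
    · exact za ▸ oa.apply_inv hsq hy
    · exact ob'
  have x1 : ((z * x) ^ 1) a = a2 := by rw [pow_one]; show z (x a) = a2; rw [← hb, zb]
  have x2 : ((z * x) ^ 1) a2 = b' := by rw [pow_one]; show z (x a2) = b'; rw [hx22, zb2]
  have x3 : ((z * x) ^ 1) b' = a := by
    rw [pow_one]; show z (x b') = a
    rw [hb', invol_apply hx, za']
  have q1 : OddPer (z * x) a := ⟨1 + (1 + 1), by decide, by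
    rw [pow_add_apply _ 1 (1 + 1), pow_add_apply _ 1 1, x1, x2, x3]⟩
  have q2 : OddPer (z * x) a2 := x1 ▸ q1.pow_apply 1
  have q3 : OddPer (z * x) b' := x2 ▸ q2.pow_apply 1
  have qT : ∀ w ∈ T, OddPer (z * x) w := by
    intro w hw
    simp only [hT, Set.mem_insert_iff, Set.mem_singleton_iff] at hw
    rcases hw with rfl | rfl | rfl | rfl | rfl | rfl
    · exact q1
    · exact za2 ▸ q2.apply_inv hsq hx
    · exact q2
    · exact zb' ▸ q3.apply_inv hsq hx
    · exact za ▸ q1.apply_inv hsq hx
    · exact q3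
  refine ⟨z, hsq, isConj_conj x s, fun p hp => hoff p fun h => hp ?_, fun p _ => ?_,
    fun p hp => ?_⟩
  · simp only [hT, Set.mem_insert_iff, Set.mem_singleton_iff] at h
    rcases h with rfl | rfl | rfl | rfl | rfl | rfl
    · exact Or.inl hCa
    · exact Or.inl hCb
    · exact Or.inl hCa2
    · exact Or.inl hCb2
    · exact Or.inr hCa'
    · exact Or.inr hCb'
  · exact transfer x x z T hoff hzT qT p (Or.inl ⟨1, odd_one, by rw [pow_one, hx]; rfl⟩)
  · have key : ∀ {a₀ : α}, a₀ ∈ T → x a₀ ∈ T → InC x y a₀ p →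
        ∃ i, y (((x * y) ^ i) p) ∈ T := by
      intro a₀ h0 h0' ⟨n, hn⟩
      set k := per c a₀ with hk
      have hk1 := per_pos c a₀
      refine ⟨(k - 1) + (k - 1) * n, ?_⟩
      have e : (k - 1) + (k - 1) * n + n = (k - 1) + k * n := by
        rw [add_assoc, ← Nat.succ_mul, Nat.succ_eq_add_one, Nat.sub_add_cancel (by omega)]
      rcases hn with rfl | rfl
      · rw [← hc, ← pow_add_apply, e, pow_add_apply, pow_fix_mul _ (pow_per c a₀)]
        have := y_base hx hy (x a₀)
        rw [invol_apply hx] at this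
        rw [hc, ← this, invol_apply hy]
        exact h0'
      · rw [← hc, ← pow_add_apply, e, pow_add_apply,
          pow_fix_mul _ (show (c ^ k) (x a₀) = x a₀ by
            rw [hk, hc, ← per_left hx hy a₀]; exact pow_per _ _)]
        have := y_base hx hy a₀
        rw [per_left hx hy] at this
        rw [hc, ← this, invol_apply hy]
        exact h0
    refine transfer y x z T hoff hzT oT p (Or.inr ?_)
    rcases hp with hp | hp
    · exact key (a₀ := a) (by simp [hT]) (by simp [hT, ← hb]) hp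
    · exact key (a₀ := a') (by simp [hT]) (by simp [hT, ← hb']) hp

/-- A pair of paths with ends fixed by x, resp. by y. -/
theorem pair {f a : α} (hf : x f = f) (hPf : Even (per (x * y) f)) (ha : y a = a)
    (hPa : Even (per (x * y) a))
    (hd : ∀ i l : ℕ, ((x * y) ^ i) f ≠ ((x * y) ^ l) a) :
    ∃ z, Sol x y {q | ∃ i, q = ((x * y) ^ i) f ∨ q = ((x * y) ^ i) a} z := by
  classical
  set c := x * y with hc
  set P := per c f with hP
  set Q := per c a with hQ
  have hP2 : 2 ≤ P := by
    obtain ⟨k, hk⟩ := hPf; have hk' : P = k + k := hk; have : 0 < P := per_pos c f; omega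
  have hQ2 : 2 ≤ Q := by
    obtain ⟨k, hk⟩ := hPa; have hk' : Q = k + k := hk; have : 0 < Q := per_pos c a; omega
  set b := x a with hb
  have hbc : b = (c ^ 1) a := by rw [hb, pow_one, hc, Equiv.Perm.mul_apply, ha]
  have hyf : y f = (c ^ (P - 1)) f := by rw [hc, y_base hx hy, hf]
  have hyb : y b = (c ^ (Q - 1)) a := by rw [hc, y_base hx hy, hb, invol_apply hx]
  have f0 : (c ^ 0) f = f := by simp
  have a0 : (c ^ 0) a = a := by simp
  have hfa : f ≠ a := by have := hd 0 0; rwa [f0, a0] at this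
  have hfb : f ≠ b := by rw [hbc]; have := hd 0 1; rwa [f0] at this
  have hab : a ≠ b := by
    rw [hbc]
    intro e
    have := pow_inj_of_lt c a (i := 0) (l := 1) (by omega) (by omega) (by rw [a0]; exact e)
    omega
  set s := Equiv.swap f a with hs
  set z := s * x * s⁻¹ with hzdef
  have hsq : z * z = 1 := conj_sq hx s
  have z1 : z f = b := by
    have := conj_apply_apply x s a
    rwa [← hb, hs, Equiv.swap_apply_right, Equiv.swap_apply_of_ne_of_ne hfb.symm hab.symm,
      ← hs, ← hzdef] at this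
  have z3 : z a = a := by
    have := conj_apply_apply x s f
    rwa [hf, hs, Equiv.swap_apply_left, ← hs, ← hzdef] at this
  have z2 : z b = f := by rw [← z1, invol_apply hsq]
  set T : Set α := {f, a, b} with hT
  have hxT : ∀ w ∈ T, x w ∈ T := by
    intro w hw
    simp only [hT, Set.mem_insert_iff, Set.mem_singleton_iff] at hw ⊢
    rcases hw with rfl | rfl | rfl
    · simp [hf]
    · simp [← hb]
    · simp [hb, invol_apply hx]
  have hzT : ∀ w ∈ T, z w ∈ T := by
    intro w hw
    simp only [hT, Set.mem_insert_iff, Set.mem_singleton_iff] at hw ⊢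
    rcases hw with rfl | rfl | rfl <;> simp [z1, z2, z3]
  have hoff : ∀ w, w ∉ T → z w = x w := by
    refine conj_off x s T (fun p hp => ?_) (fun p hp h => hp ?_)
    · simp only [hT, Set.mem_insert_iff, Set.mem_singleton_iff, not_or] at hp
      exact Equiv.swap_apply_of_ne_of_ne hp.1 hp.2.1
    · have := hxT _ h; rwa [invol_apply hx] at this
  have ef : ((z * y) ^ P) f = b := by
    have := walk y x z T hoff f f (P - 1) (fun i hi => ?_) (by
      rw [← hc, ← hyf, invol_apply hy])
    · rwa [Nat.sub_add_cancel (by omega), z1] at this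
    rw [← hc]
    intro hw
    simp only [hT, Set.mem_insert_iff, Set.mem_singleton_iff] at hw
    rcases hw with h | h | h
    · have e : (c ^ i) f = y f := (invol_apply hy _).symm.trans (congrArg y h)
      rw [hyf] at e
      have := pow_inj_of_lt c f (by omega) (by omega) e
      omega
    · have e : (c ^ i) f = y a := (invol_apply hy _).symm.trans (congrArg y h)
      rw [ha, ← a0] at e
      exact hd _ _ e
    · have e : (c ^ i) f = y b := (invol_apply hy _).symm.trans (congrArg y h)
      rw [hyb] at e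
      exact hd _ _ e
  have eb : ((z * y) ^ (Q - 1)) b = f := by
    have := walk y x z T hoff b b (Q - 2) (fun i hi => ?_) (by
      rw [← hc, hbc, ← pow_add_apply, show Q - 2 + 1 = Q - 1 by omega, ← hyb, invol_apply hy,
        hbc])
    · rwa [show Q - 2 + 1 = Q - 1 by omega, z2] at this
    rw [← hc, hbc, ← pow_add_apply]
    intro hw
    simp only [hT, Set.mem_insert_iff, Set.mem_singleton_iff] at hw
    rcases hw with h | h | h
    · have e : (c ^ (i + 1)) a = y f := (invol_apply hy _).symm.trans (congrArg y h)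
      rw [hyf] at e
      exact hd _ _ e.symm
    · have e : (c ^ (i + 1)) a = y a := (invol_apply hy _).symm.trans (congrArg y h)
      rw [ha, ← a0, ← pow_add_apply] at e
      have := pow_inj_of_lt c a (by omega) (by omega) e
      omega
    · have e : (c ^ (i + 1)) a = y b := (invol_apply hy _).symm.trans (congrArg y h)
      rw [hyb] at e
      have := pow_inj_of_lt c a (by omega) (by omega) e
      omega
  have o1 : OddPer (z * y) f := ⟨(Q - 1) + P, by
    obtain ⟨k, hk⟩ := hPf; obtain ⟨l, hl⟩ := hPa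
    have hk' : P = k + k := hk; have hl' : Q = l + l := hl
    exact ⟨k + l - 1, by omega⟩, by rw [pow_add_apply, ef, eb]⟩
  have o3 : OddPer (z * y) a := ⟨1, odd_one, by
    rw [pow_one]; show z (y a) = a
    rw [ha, z3]⟩
  have o2 : OddPer (z * y) b := z1 ▸ o1.apply_inv hsq hy
  have x1 : ((z * x) ^ 1) f = b := by rw [pow_one]; show z (x f) = b; rw [hf, z1]
  have x2 : ((z * x) ^ 1) b = a := by
    rw [pow_one]; show z (x b) = a
    rw [hb, invol_apply hx, z3]
  have x3 : ((z * x) ^ 1) a = f := by rw [pow_one]; show z (x a) = f; rw [← hb, z2]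
  have q1 : OddPer (z * x) f := ⟨1 + (1 + 1), by decide, by
    rw [pow_add_apply _ 1 (1 + 1), pow_add_apply _ 1 1, x1, x2, x3]⟩
  have q2 : OddPer (z * x) b := x1 ▸ q1.pow_apply 1
  have q3 : OddPer (z * x) a := x2 ▸ q2.pow_apply 1
  refine ⟨z, hsq, isConj_conj x s, fun p hp => hoff p fun h => hp ?_, fun p _ => ?_,
    fun p hp => ?_⟩
  · simp only [hT, Set.mem_insert_iff, Set.mem_singleton_iff] at h
    rcases h with rfl | rfl | rfl
    · exact ⟨0, Or.inl f0.symm⟩
    · exact ⟨0, Or.inr a0.symm⟩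
    · exact ⟨1, Or.inr hbc⟩
  · refine transfer x x z T hoff hzT (fun w hw => ?_) p
      (Or.inl ⟨1, odd_one, by rw [pow_one, hx]; rfl⟩)
    simp only [hT, Set.mem_insert_iff, Set.mem_singleton_iff] at hw
    rcases hw with rfl | rfl | rfl <;> assumption
  · refine transfer y x z T hoff hzT (fun w hw => ?_) p (Or.inr ?_)
    · simp only [hT, Set.mem_insert_iff, Set.mem_singleton_iff] at hw
      rcases hw with rfl | rfl | rfl <;> assumption
    obtain ⟨n, rfl | rfl⟩ := hp
    · refine ⟨(P - 1) + (P - 1) * n, ?_⟩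
      have e : (P - 1) + (P - 1) * n + n = (P - 1) + P * n := by
        rw [add_assoc, ← Nat.succ_mul, Nat.succ_eq_add_one, Nat.sub_add_cancel (by omega)]
      rw [← hc, ← pow_add_apply, e, pow_add_apply, pow_fix_mul _ (pow_per c f), ← hyf,
        invol_apply hy]
      simp [hT]
    · refine ⟨(Q - 1) * n, ?_⟩
      rw [← hc, ← pow_add_apply, show (Q - 1) * n + n = Q * n by
        rw [← Nat.succ_mul, Nat.succ_eq_add_one, Nat.sub_add_cancel (by omega)],
        pow_fix_mul _ (pow_per c a), ha]
      simp [hT]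

end

end Cfsg.Agent.InvGraph
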