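import Mathlib
import Cfsg.Agent.Lib.InvGraph.Base

/-!
Two conjugate involutive permutations outside the Klein exception have a common neighbour.
-/

set_option autoImplicit false

namespace Cfsg.Agent.InvGraph

variable {α : Type*} [Fintype α] [DecidableEq α]

theorem isConj_of_card_fixed {σ τ : Equiv.Perm α} (hσ : σ * σ = 1) (hτ : τ * τ = 1)
    (h : (Finset.univ.filter fun p => σ p = p).card = (Finset.univ.filter fun p => τ p = p).card) :
    IsConj σ τ := by
  haveI : Fact (Nat.Prime 2) := ⟨Nat.prime_two⟩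
  have key : ∀ ρ : Equiv.Perm α, ρ * ρ = 1 →
      ρ.cycleType = Multiset.replicate (Multiset.card ρ.cycleType) 2 ∧
        2 * Multiset.card ρ.cycleType + (Finset.univ.filter fun p => ρ p = p).card =
          Fintype.card α := by
    intro ρ hρ
    have h1 : ρ ^ 2 = 1 := by rw [pow_two, hρ]
    have h2 : ρ.cycleType = Multiset.replicate (Multiset.card ρ.cycleType) 2 :=
      Multiset.eq_replicate_card.2 (Equiv.Perm.pow_prime_eq_one_iff.1 h1)
    refine ⟨h2, ?_⟩
    have h3 := Equiv.Perm.sum_cycleType ρ
    rw [h2, Multiset.sum_replicate, smul_eq_mul] at h3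
    have h4 : (Finset.univ.filter fun p => ρ p = p) = ρ.supportᶜ := by
      ext p; simp [Equiv.Perm.mem_support]
    rw [h4, Finset.card_compl, mul_comm, h3]
    have := Finset.card_le_univ ρ.support
    omega
  obtain ⟨a1, a2⟩ := key σ hσ
  obtain ⟨b1, b2⟩ := key τ hτ
  rw [Equiv.Perm.isConj_iff_cycleType_eq, a1, b1]
  congr 1
  omega

theorem card_fixed_of_isConj {σ τ : Equiv.Perm α} (h : IsConj σ τ) :
    (Finset.univ.filter fun p => σ p = p).card = (Finset.univ.filter fun p => τ p = p).card := by
  obtain ⟨s, rfl⟩ := isConj_iff.1 h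
  refine Finset.card_bij (fun p _ => s p) (fun p hp => ?_) (fun p _ q _ e => s.injective e)
    (fun q hq => ⟨s⁻¹ q, ?_, by simp⟩)
  · simp only [Finset.mem_filter, Finset.mem_univ, true_and] at hp ⊢
    simp [hp]
  · simp only [Finset.mem_filter, Finset.mem_univ, true_and] at hq ⊢
    apply s.injective
    simpa using hq

variable {x y : Equiv.Perm α} (hx : x * x = 1) (hy : y * y = 1)
include hx hy

theorem good_fix_x {q : α} (hq : y q = q) {k : ℕ} (hk : per (x * y) q = 2 * k + 1) :
    x (((x * y) ^ (k + 1)) q) = ((x * y) ^ (k + 1)) q := by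
  refine ((x * y) ^ (k + 1)).injective ?_
  rw [rev_left hx hy, ← pow_add_apply, show k + 1 + (k + 1) = 1 + (2 * k + 1) by ring,
    pow_add_apply, ← hk, pow_per, pow_one, Equiv.Perm.mul_apply, hq]

theorem good_fix_y {q : α} (hq : x q = q) {k : ℕ} (hk : per (x * y) q = 2 * k + 1) :
    y (((x * y) ^ k) q) = ((x * y) ^ k) q := by
  refine ((x * y) ^ k).injective ?_
  rw [rev_right hx hy, ← pow_add_apply]
  apply (x * y).injective
  rw [← pow_succ_apply, show k + k + 1 = per (x * y) q by omega, pow_per, Equiv.Perm.mul_apply,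
    invol_apply hy, hq]

omit hx hy in
theorem fix_unique {c r : Equiv.Perm α} (hr : ∀ i p, (c ^ i) (r ((c ^ i) p)) = r p) {p q : α}
    (hp : r p = p) (hq : r q = q) (hodd : Odd (per c p)) {n : ℕ} (h : q = (c ^ n) p) : q = p := by
  subst h
  have e := hr n p
  rw [hq, hp, ← pow_add_apply, pow_apply_eq_iff, ← two_mul] at e
  obtain ⟨j, hj⟩ := (Nat.Coprime.dvd_of_dvd_mul_left (Nat.coprime_two_right.2 hodd) e)
  rw [hj, pow_fix_mul _ (pow_per c p)]

theorem good_of_balanced (S : Finset α) (hSx : ∀ p ∈ S, x p ∈ S) (hSy : ∀ p ∈ S, y p ∈ S)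
    (hbal : (S.filter fun p => x p = p).card = (S.filter fun p => y p = p).card) :
    (∀ p ∈ S, x p = p → Odd (per (x * y) p)) ↔ (∀ p ∈ S, y p = p → Odd (per (x * y) p)) := by
  classical
  have hpow : ∀ i, ∀ p ∈ S, ((x * y) ^ i) p ∈ S := by
    intro i
    induction i with
    | zero => intro p hp; simpa using hp
    | succ i ih =>
      intro p hp
      rw [pow_succ_apply, Equiv.Perm.mul_apply]
      exact hSx _ (hSy _ (ih p hp))
  constructor
  · intro hgood p hp hyp
    let Φ : α → α := fun q => ((x * y) ^ (per (x * y) q / 2)) q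
    have hsub : (S.filter fun p => x p = p).image Φ ⊆ S.filter fun p => y p = p := by
      intro q hq
      obtain ⟨r, hr, rfl⟩ := Finset.mem_image.1 hq
      simp only [Finset.mem_filter] at hr ⊢
      obtain ⟨k, hk⟩ := hgood r hr.1 hr.2
      refine ⟨hpow _ r hr.1, ?_⟩
      show y (((x * y) ^ (per (x * y) r / 2)) r) = ((x * y) ^ (per (x * y) r / 2)) r
      rw [show per (x * y) r / 2 = k by omega]
      exact good_fix_y hx hy hr.2 hk
    have hinj : Set.InjOn Φ ↑(S.filter fun p => x p = p) := by
      intro u hu v hv e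
      simp only [Finset.coe_filter, Set.mem_ofPred_eq] at hu hv
      obtain ⟨n, hn⟩ := exists_pow_of_meet (x * y) u v e
      exact (fix_unique (rev_left hx hy) hu.2 hv.2 (hgood u hu.1 hu.2) hn).symm
    have heq := Finset.eq_of_subset_of_card_le hsub
      (by rw [Finset.card_image_of_injOn hinj, hbal])
    have : p ∈ (S.filter fun p => x p = p).image Φ := by
      rw [heq]; exact Finset.mem_filter.2 ⟨hp, hyp⟩
    obtain ⟨r, hr, rfl⟩ := Finset.mem_image.1 this
    rw [per_pow_apply]
    simp only [Finset.mem_filter] at hr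
    exact hgood r hr.1 hr.2
  · intro hgood p hp hxp
    let Φ : α → α := fun q => ((x * y) ^ (per (x * y) q / 2 + 1)) q
    have hsub : (S.filter fun p => y p = p).image Φ ⊆ S.filter fun p => x p = p := by
      intro q hq
      obtain ⟨r, hr, rfl⟩ := Finset.mem_image.1 hq
      simp only [Finset.mem_filter] at hr ⊢
      obtain ⟨k, hk⟩ := hgood r hr.1 hr.2
      refine ⟨hpow _ r hr.1, ?_⟩
      show x (((x * y) ^ (per (x * y) r / 2 + 1)) r) = ((x * y) ^ (per (x * y) r / 2 + 1)) r
      rw [show per (x * y) r / 2 = k by omega]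
      exact good_fix_x hx hy hr.2 hk
    have hinj : Set.InjOn Φ ↑(S.filter fun p => y p = p) := by
      intro u hu v hv e
      simp only [Finset.coe_filter, Set.mem_ofPred_eq] at hu hv
      obtain ⟨n, hn⟩ := exists_pow_of_meet (x * y) u v e
      exact (fix_unique (rev_right hx hy) hu.2 hv.2 (hgood u hu.1 hu.2) hn).symm
    have heq := Finset.eq_of_subset_of_card_le hsub
      (by rw [Finset.card_image_of_injOn hinj, hbal])
    have : p ∈ (S.filter fun p => y p = p).image Φ := by
      rw [heq]; exact Finset.mem_filter.2 ⟨hp, hxp⟩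
    obtain ⟨r, hr, rfl⟩ := Finset.mem_image.1 this
    rw [per_pow_apply]
    simp only [Finset.mem_filter] at hr
    exact hgood r hr.1 hr.2

/-- Glue two solutions. -/
theorem glue {R U : Set α} (hd : ∀ p ∈ R, p ∉ U) (hRy : ∀ p ∈ R, y p ∈ R) (hUy : ∀ p ∈ U, y p ∈ U)
    (hRx : ∀ p ∈ R, x p ∈ R) (hUx : ∀ p ∈ U, x p ∈ U) {z1 z2 : Equiv.Perm α}
    (h1 : Sol x y R z1) (h2 : Sol x y U z2) : ∃ z, Sol x y (R ∪ U) z := by
  classical
  have inv : ∀ (V : Set α) (w : Equiv.Perm α), (∀ p ∈ V, x p ∈ V) → Sol x y V w →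
      (∀ p ∈ V, w p ∈ V) := by
    intro V w hV hw p hp
    by_contra hn
    have e := hw.off _ hn
    rw [invol_apply hw.sq] at e
    apply hn
    have := hV p hp
    have h2 : x p = w p := by
      have := congrArg x e
      rwa [invol_apply hx] at this
    rwa [h2] at this
  set z := z1 * x * z2 with hz
  have zR : ∀ p ∈ R, z p = z1 p := fun p hp => by
    rw [hz, Equiv.Perm.mul_apply, Equiv.Perm.mul_apply, h2.off p (hd p hp), invol_apply hx]
  have zO : ∀ p, p ∉ R → z p = z2 p := by
    intro p hp
    rw [hz, Equiv.Perm.mul_apply, Equiv.Perm.mul_apply]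
    have hq : x (z2 p) ∉ R := by
      by_cases hpU : p ∈ U
      · exact fun h => hd _ h (hUx _ (inv U z2 hUx h2 p hpU))
      · rw [h2.off p hpU, invol_apply hx]; exact hp
    rw [h1.off _ hq, invol_apply hx]
  have hsq : z * z = 1 := by
    ext p
    rw [Equiv.Perm.mul_apply, Equiv.Perm.one_apply]
    by_cases hp : p ∈ R
    · rw [zR p hp, zR _ (inv R z1 hRx h1 p hp), invol_apply h1.sq]
    · have hq : z2 p ∉ R := by
        by_cases hpU : p ∈ U
        · exact fun h => hd _ h (inv U z2 hUx h2 p hpU)
        · rw [h2.off p hpU]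
          intro h
          exact hp (invol_apply hx p ▸ hRx _ h)
      rw [zO p hp, zO _ hq, invol_apply h2.sq]
  have hcnt : (Finset.univ.filter fun p => z p = p).card +
      (Finset.univ.filter fun p => x p = p).card =
      (Finset.univ.filter fun p => z1 p = p).card + (Finset.univ.filter fun p => z2 p = p).card := by
    simp only [Finset.card_filter, ← Finset.sum_add_distrib]
    refine Finset.sum_congr rfl fun p _ => ?_
    by_cases hp : p ∈ R
    · simp only [zR p hp, h2.off p (hd p hp)]
    · simp only [zO p hp, h1.off p hp]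
      exact add_comm _ _
  have e1 := card_fixed_of_isConj h1.conj
  have e2 := card_fixed_of_isConj h2.conj
  have per_eq : ∀ (V : Set α) (w r : Equiv.Perm α), (∀ p ∈ V, r p ∈ V) → (∀ p ∈ V, w p ∈ V) →
      (∀ p ∈ V, z p = w p) → ∀ p ∈ V, OddPer (w * r) p → OddPer (z * r) p := by
    intro V w r hr hw hzw p hp hper
    obtain ⟨k, hk, hkp⟩ := hper
    have hin : ∀ i, ((w * r) ^ i) p ∈ V := by
      intro i
      induction i with
      | zero => simpa using hp
      | succ i ih => rw [pow_succ_apply, Equiv.Perm.mul_apply]; exact hw _ (hr _ ih)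
    refine ⟨k, hk, ?_⟩
    rw [follow r w z Vᶜ (fun q hq => hzw q (not_not.1 hq)) p k
      (fun i _ => fun h => h (hr _ (hin i))), hkp]
  have zU : ∀ p ∈ U, z p = z2 p := fun p hp => zO p fun h => hd p h hp
  refine ⟨z, hsq, isConj_of_card_fixed hx hsq (by omega), fun p hp => ?_, fun p hp => ?_,
    fun p hp => ?_⟩
  · simp only [Set.mem_union, not_or] at hp
    rw [zO p hp.1, h2.off p hp.2]
  · rcases hp with hp | hp
    · exact per_eq R z1 x hRx (inv R z1 hRx h1) zR p hp (h1.left p hp)
    · exact per_eq U z2 x hUx (inv U z2 hUx h2) zU p hp (h2.left p hp)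
  · rcases hp with hp | hp
    · exact per_eq R z1 y hRy (inv R z1 hRx h1) zR p hp (h1.right p hp)
    · exact per_eq U z2 y hUy (inv U z2 hUx h2) zU p hp (h2.right p hp)

/-- The recursion over orbits. -/
theorem exists_sol (S : Finset α) (hSx : ∀ p ∈ S, x p ∈ S) (hSy : ∀ p ∈ S, y p ∈ S)
    (hbal : (S.filter fun p => x p = p).card = (S.filter fun p => y p = p).card)
    (hexc : ¬ ∃ a, IsCyc x y a ∧ per (x * y) a = 2 ∧ (S : Set α) = {q | InC x y a q}) :
    ∃ z, Sol x y (S : Set α) z := by
  classical
  induction S using Finset.strongInduction with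
  | _ S ih =>
  have hpow : ∀ i, ∀ p ∈ S, ((x * y) ^ i) p ∈ S := by
    intro i
    induction i with
    | zero => intro p hp; simpa using hp
    | succ i hi =>
      intro p hp
      rw [pow_succ_apply, Equiv.Perm.mul_apply]
      exact hSx _ (hSy _ (hi p hp))
  by_cases hcyc : ∃ a ∈ S, IsCyc x y a
  · obtain ⟨a, haS, ha⟩ := hcyc
    set R := S.filter fun q => ¬ InC x y a q with hR
    have hCS : ∀ q, InC x y a q → q ∈ S := by
      rintro q ⟨i, rfl | rfl⟩
      · exact hpow i a haS
      · exact hpow i _ (hSx a haS)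
    have hset : (S : Set α) = ↑R ∪ {q | InC x y a q} := by
      ext q
      simp only [hR, Set.mem_union, Finset.mem_coe, Finset.mem_filter, Set.mem_ofPred_eq]
      constructor
      · intro h
        by_cases hq : InC x y a q
        · exact Or.inr hq
        · exact Or.inl ⟨h, hq⟩
      · rintro (h | h)
        · exact h.1
        · exact hCS q h
    rcases R.eq_empty_or_nonempty with he | hne
    · rw [he] at hset
      simp only [Finset.coe_empty, Set.empty_union] at hset
      rw [hset]
      exact split hx hy ha fun h2 => hexc ⟨a, ha, h2, hset⟩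
    have hRx : ∀ p ∈ R, x p ∈ R := by
      intro p hp
      simp only [hR, Finset.mem_filter] at hp ⊢
      exact ⟨hSx p hp.1, fun h => hp.2 (invol_apply hx p ▸ inC_x hx hy h)⟩
    have hRy : ∀ p ∈ R, y p ∈ R := by
      intro p hp
      simp only [hR, Finset.mem_filter] at hp ⊢
      exact ⟨hSy p hp.1, fun h => hp.2 (invol_apply hy p ▸ inC_y hx hy h)⟩
    have hdisj : ∀ q, InC x y a q → q ∉ (R : Set α) := by
      intro q hq h
      simp only [hR, Finset.mem_coe, Finset.mem_filter] at h
      exact h.2 hq
    by_cases hexcR : ∃ a0, IsCyc x y a0 ∧ per (x * y) a0 = 2 ∧ (R : Set α) = {q | InC x y a0 q}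
    · obtain ⟨a0, h0, h02, hR0⟩ := hexcR
      rw [hset, hR0]
      exact double hx hy h0 h02 ha fun q hq hq' => hdisj q hq' (by rw [hR0]; exact hq)
    have hss : R ⊂ S := Finset.filter_ssubset.2 ⟨a, haS, fun h => h ⟨0, Or.inl (by simp)⟩⟩
    have hfix : ∀ r : Equiv.Perm α, (∀ q, InC x y a q → r q ≠ q) →
        R.filter (fun p => r p = p) = S.filter fun p => r p = p := by
      intro r hr
      ext q
      simp only [hR, Finset.mem_filter]
      exact ⟨fun h => ⟨h.1.1, h.2⟩, fun h => ⟨⟨h.1, fun hq => hr q hq h.2⟩, h.2⟩⟩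
    obtain ⟨z, hz⟩ := ih R hss hRx hRy (by
      rw [hfix x (fun q hq => (inC_no_fix hx hy ha hq).1),
        hfix y (fun q hq => (inC_no_fix hx hy ha hq).2), hbal]) hexcR
    rw [hset]
    exact attach hx hy (R := (R : Set α)) hRx hRy hz
      (by obtain ⟨w, hw⟩ := hne; exact ⟨w, hw⟩) ha hdisj
  · push Not at hcyc
    by_cases hgood : ∀ p ∈ S, Odd (per (x * y) p)
    · exact ⟨x, sol_self hx _ fun p hp => (oddPer_iff _ p).2 (hgood p hp)⟩
    push Not at hgood
    obtain ⟨p, hpS, hp⟩ := hgood
    rw [Nat.not_odd_iff_even] at hp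
    have hnc := hcyc p hpS
    simp only [IsCyc, not_and, hp, forall_const, not_forall] at hnc
    obtain ⟨i, hi⟩ := hnc
    have hbg := good_of_balanced hx hy S hSx hSy hbal
    have hnot : ¬ (∀ p ∈ S, x p = p → Odd (per (x * y) p)) := by
      intro h
      have h' := hbg.1 h
      by_cases hxi : x (((x * y) ^ i) p) = ((x * y) ^ i) p
      · have := h _ (hpow i p hpS) hxi
        rw [per_pow_apply] at this
        exact Nat.not_even_iff_odd.2 this hp
      · have hyi : y (((x * y) ^ i) p) = ((x * y) ^ i) p := by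
          by_contra hne
          exact hi hxi hne
        have := h' _ (hpow i p hpS) hyi
        rw [per_pow_apply] at this
        exact Nat.not_even_iff_odd.2 this hp
    have hnot' : ¬ (∀ p ∈ S, y p = p → Odd (per (x * y) p)) := fun h => hnot (hbg.2 h)
    push Not at hnot hnot'
    obtain ⟨f, hfS, hfx, hPf⟩ := hnot
    obtain ⟨a, haS, hay, hPa⟩ := hnot'
    rw [Nat.not_odd_iff_even] at hPf hPa
    set c := x * y with hc
    have hd : ∀ i l : ℕ, (c ^ i) f ≠ (c ^ l) a := by
      intro i l e
      obtain ⟨n, hn⟩ := exists_pow_of_meet c f a e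
      have e1 := rev_right hx hy n f
      rw [← hc, ← hn, hay, hn, ← pow_add_apply] at e1
      have e2 : (c ^ (n + n + 1)) f = f := by
        rw [pow_succ_apply, e1, hc, Equiv.Perm.mul_apply, invol_apply hy, hfx]
      obtain ⟨k, hk⟩ := hPf
      obtain ⟨j, hj⟩ := (pow_apply_eq_iff c f _).1 e2
      rw [hk, add_mul] at hj
      omega
    set U : Set α := {q | ∃ i, q = (c ^ i) f ∨ q = (c ^ i) a} with hU
    have hUx : ∀ q ∈ U, x q ∈ U := by
      rintro q ⟨j, rfl | rfl⟩
      · obtain ⟨l, hl⟩ := x_orbit hx hy f j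
        rw [hfx] at hl; exact ⟨l, Or.inl hl⟩
      · obtain ⟨l, hl⟩ := x_orbit hx hy a j
        refine ⟨l + 1, Or.inr ?_⟩
        rw [hl, pow_add_apply, pow_one, hc, Equiv.Perm.mul_apply, hay]
    have hUy : ∀ q ∈ U, y q ∈ U := by
      rintro q ⟨j, rfl | rfl⟩
      · obtain ⟨l, hl⟩ := y_orbit hx hy f j
        rw [hfx] at hl; exact ⟨l, Or.inl hl⟩
      · obtain ⟨l, hl⟩ := y_orbit hx hy a j
        refine ⟨l + 1, Or.inr ?_⟩
        rw [hl, pow_add_apply, pow_one, hc, Equiv.Perm.mul_apply, hay]
    have hUS : ∀ q ∈ U, q ∈ S := by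
      rintro q ⟨j, rfl | rfl⟩
      · exact hpow j f hfS
      · exact hpow j a haS
    -- the two fixed points on each side
    have hcardx : (S.filter fun q => q ∈ U ∧ x q = q).card = 2 := by
      have hset2 : (S.filter fun q => q ∈ U ∧ x q = q) = {f, (c ^ (per c f / 2)) f} := by
        ext q
        simp only [Finset.mem_filter, Finset.mem_insert, Finset.mem_singleton]
        rw [← fixed_in_orbit (rev_left hx hy) f hfx hPf]
        constructor
        · rintro ⟨-, ⟨j, hj⟩, hq⟩
          refine ⟨?_, hq⟩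
          rcases hj with hj | hj
          · exact ⟨j, hj⟩
          exfalso
          have e1 := rev_left hx hy j a
          rw [← hc, ← hj, hq, hj, ← pow_add_apply] at e1
          have e2 : (c ^ (j + j + (per c a - 1))) a = a := by
            rw [add_comm, pow_add_apply, e1,
              show x a = (c ^ 1) a by rw [pow_one, hc, Equiv.Perm.mul_apply, hay],
              ← pow_add_apply, Nat.sub_add_cancel (per_pos c a), pow_per]
          obtain ⟨k, hk⟩ := hPa
          obtain ⟨d, hd'⟩ := (pow_apply_eq_iff c a _).1 e2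
          rw [hk, add_mul] at hd'
          have := per_pos c a
          omega
        · rintro ⟨⟨j, hj⟩, hq⟩
          exact ⟨hj ▸ hpow j f hfS, ⟨j, Or.inl hj⟩, hq⟩
      rw [hset2, Finset.card_pair]
      intro e
      have hpos := per_pos c f
      have := pow_inj_of_lt c f (i := 0) (l := per c f / 2) hpos (by omega) (by simpa using e)
      obtain ⟨k, hk⟩ := hPf
      omega
    have hcardy : (S.filter fun q => q ∈ U ∧ y q = q).card = 2 := by
      have hset2 : (S.filter fun q => q ∈ U ∧ y q = q) = {a, (c ^ (per c a / 2)) a} := by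
        ext q
        simp only [Finset.mem_filter, Finset.mem_insert, Finset.mem_singleton]
        rw [← fixed_in_orbit (rev_right hx hy) a hay hPa]
        constructor
        · rintro ⟨-, ⟨j, hj⟩, hq⟩
          refine ⟨?_, hq⟩
          rcases hj with hj | hj
          · exfalso
            have e1 := rev_right hx hy j f
            rw [← hc, ← hj, hq, hj, ← pow_add_apply] at e1
            have e2 : (c ^ (j + j + 1)) f = f := by
              rw [pow_succ_apply, e1, hc, Equiv.Perm.mul_apply, invol_apply hy, hfx]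
            obtain ⟨k, hk⟩ := hPf
            obtain ⟨d, hd'⟩ := (pow_apply_eq_iff c f _).1 e2
            rw [hk, add_mul] at hd'
            omega
          · exact ⟨j, hj⟩
        · rintro ⟨⟨j, hj⟩, hq⟩
          exact ⟨hj ▸ hpow j a haS, ⟨j, Or.inr hj⟩, hq⟩
      rw [hset2, Finset.card_pair]
      intro e
      have hpos := per_pos c a
      have := pow_inj_of_lt c a (i := 0) (l := per c a / 2) hpos (by omega) (by simpa using e)
      obtain ⟨k, hk⟩ := hPa
      omega
    set R := S.filter fun q => q ∉ U with hR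
    have hRx : ∀ q ∈ R, x q ∈ R := by
      intro q hq
      simp only [hR, Finset.mem_filter] at hq ⊢
      exact ⟨hSx q hq.1, fun h => hq.2 (invol_apply hx q ▸ hUx _ h)⟩
    have hRy : ∀ q ∈ R, y q ∈ R := by
      intro q hq
      simp only [hR, Finset.mem_filter] at hq ⊢
      exact ⟨hSy q hq.1, fun h => hq.2 (invol_apply hy q ▸ hUy _ h)⟩
    have hsplit : ∀ r : Equiv.Perm α, (R.filter fun q => r q = q).card +
        (S.filter fun q => q ∈ U ∧ r q = q).card = (S.filter fun q => r q = q).card := by
      intro r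
      rw [hR, Finset.filter_filter, add_comm, ← Finset.card_union_of_disjoint]
      · congr 1
        ext q
        simp only [Finset.mem_union, Finset.mem_filter]
        tauto
      · rw [Finset.disjoint_filter]
        rintro q - ⟨h, -⟩ ⟨h', -⟩
        exact h' h
    obtain ⟨z1, hz1⟩ := ih R (Finset.filter_ssubset.2
        ⟨f, hfS, fun h => h ⟨0, Or.inl (by simp)⟩⟩) hRx hRy (by
      have := hsplit x; have := hsplit y; omega) (by
      rintro ⟨a0, h0, -, hR0⟩
      have : a0 ∈ (R : Set α) := by rw [hR0]; exact ⟨0, Or.inl (by simp)⟩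
      exact hcyc a0 (Finset.mem_filter.1 (Finset.mem_coe.1 this)).1 h0)
    obtain ⟨z2, hz2⟩ := pair hx hy hfx hPf hay hPa hd
    have hset : (S : Set α) = ↑R ∪ U := by
      ext q
      simp only [hR, Set.mem_union, Finset.mem_coe, Finset.mem_filter]
      constructor
      · intro h
        by_cases hq : q ∈ U
        · exact Or.inr hq
        · exact Or.inl ⟨h, hq⟩
      · rintro (h | h)
        · exact h.1
        · exact hUS q h
    rw [hset]
    exact glue hx hy (fun q hq => (Finset.mem_filter.1 (Finset.mem_coe.1 hq)).2) hRy hUy hRx hUx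
      hz1 hz2

/-- The common neighbour. -/
theorem exists_common (hn : 5 ≤ Fintype.card α) (hxy : IsConj x y) :
    ∃ z, IsConj x z ∧ Odd (orderOf (z * x)) ∧ Odd (orderOf (z * y)) := by
  classical
  obtain ⟨z, hz⟩ := exists_sol hx hy Finset.univ (fun p _ => Finset.mem_univ _)
    (fun p _ => Finset.mem_univ _) (card_fixed_of_isConj hxy) (by
      rintro ⟨a, -, h2, hS⟩
      have hsub : (Finset.univ : Finset α) ⊆
          {a, ((x * y) ^ 1) a, x a, ((x * y) ^ 1) (x a)} := by
        intro q _
        have hq : InC x y a q := by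
          have : q ∈ (Finset.univ : Finset α) := Finset.mem_univ q
          rw [← Finset.mem_coe, hS] at this
          exact this
        have h2' : per (x * y) (x a) = 2 := (per_left hx hy a).trans h2
        have red : ∀ {p : α}, per (x * y) p = 2 → ∀ i : ℕ,
            ((x * y) ^ i) p = p ∨ ((x * y) ^ i) p = ((x * y) ^ 1) p := by
          intro p hp i
          rcases Nat.even_or_odd i with ⟨k, hk⟩ | ⟨k, hk⟩
          · left; rw [pow_apply_eq_iff, hp, hk]; exact ⟨k, by ring⟩
          · right
            rw [hk, add_comm, pow_add_apply]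
            congr 1
            rw [pow_apply_eq_iff, hp]; exact dvd_mul_right 2 k
        simp only [Finset.mem_insert, Finset.mem_singleton]
        obtain ⟨i, rfl | rfl⟩ := hq
        · rcases red h2 i with h | h
          · exact Or.inl h
          · exact Or.inr (Or.inl h)
        · rcases red h2' i with h | h
          · exact Or.inr (Or.inr (Or.inl h))
          · exact Or.inr (Or.inr (Or.inr h))
      have := (Finset.card_le_card hsub).trans Finset.card_le_four
      rw [Finset.card_univ] at this
      omega)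
  exact ⟨z, hz.conj, odd_orderOf_of_oddPer _ fun p => hz.left p (by simp),
    odd_orderOf_of_oddPer _ fun p => hz.right p (by simp)⟩

end Cfsg.Agent.InvGraph
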