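import Mathlib

/-!
Connectedness and diameter two of the graph joining two members of a class whose product has odd order.
-/

set_option autoImplicit false

namespace Cfsg.Agent.InvGraph

theorem odd_orderOf_swap {G : Type*} [Group G] (x y : G) (h : Odd (orderOf (x * y))) :
    Odd (orderOf (y * x)) := by
  have hc : SemiconjBy y (x * y) (y * x) := by simp [SemiconjBy, mul_assoc]
  rwa [← SemiconjBy.orderOf_eq y hc]

/-- If any two members of the class are joined through a third one and two of them are not joined,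
then the odd product graph is connected of diameter two. -/
theorem connected_diam_two {G : Type*} [Group G] (P : G → Prop)
    (hmid : ∀ x y : G, P x → P y → x ≠ y → ¬ Odd (orderOf (x * y)) →
      ∃ z, P z ∧ Odd (orderOf (x * z)) ∧ Odd (orderOf (z * y)))
    (a b : G) (ha : P a) (hb : P b) (hab : a ≠ b) (hodd : ¬ Odd (orderOf (a * b))) :
    (SimpleGraph.fromRel fun x y : {x : G // P x} => Odd (orderOf (x.1 * y.1))).Connected ∧
      (SimpleGraph.fromRel fun x y : {x : G // P x} => Odd (orderOf (x.1 * y.1))).diam = 2 := by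
  set Γ := SimpleGraph.fromRel fun x y : {x : G // P x} => Odd (orderOf (x.1 * y.1)) with hΓ
  have hadj : ∀ x y : {x : G // P x}, x ≠ y → Odd (orderOf (x.1 * y.1)) → Γ.Adj x y :=
    fun x y hne h => ⟨hne, Or.inl h⟩
  have hle : ∀ x y, Γ.edist x y ≤ 2 := by
    intro x y
    by_cases hxy : x = y
    · subst hxy
      simp
    by_cases h : Odd (orderOf (x.1 * y.1))
    · exact le_trans ((hadj x y hxy h).toWalk.edist_le) (by simp)
    obtain ⟨z, hz, hxz, hzy⟩ := hmid x.1 y.1 x.2 y.2 (fun e => hxy (Subtype.ext e)) h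
    by_cases h1 : x = ⟨z, hz⟩
    · subst h1
      exact absurd hzy h
    by_cases h2 : y = ⟨z, hz⟩
    · subst h2
      exact absurd hxz h
    exact le_trans (((hadj x ⟨z, hz⟩ h1 hxz).toWalk.append
      (hadj ⟨z, hz⟩ y (fun e => h2 e.symm) hzy).toWalk).edist_le) (by simp)
  haveI : Nonempty {x : G // P x} := ⟨⟨a, ha⟩⟩
  haveI : Nontrivial {x : G // P x} := ⟨⟨⟨a, ha⟩, ⟨b, hb⟩, fun e => hab (congrArg Subtype.val e)⟩⟩
  have hpre : Γ.Preconnected := fun x y =>
    SimpleGraph.reachable_of_edist_ne_top (ne_top_of_le_ne_top (by simp) (hle x y))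
  refine ⟨⟨hpre⟩, ?_⟩
  have hed : Γ.ediam ≤ 2 := SimpleGraph.ediam_le_of_edist_le hle
  have htop : Γ.ediam ≠ ⊤ := ne_top_of_le_ne_top (by simp) hed
  have h0 : Γ.diam ≠ 0 := SimpleGraph.diam_ne_zero_of_ediam_ne_top htop
  have h1 : Γ.diam ≠ 1 := by
    rw [Ne, SimpleGraph.diam_eq_one]
    intro h
    have : Γ.Adj ⟨a, ha⟩ ⟨b, hb⟩ := by
      rw [h]
      exact fun e => hab (congrArg Subtype.val e)
    rcases this.2 with h2 | h2
    · exact hodd h2
    · exact hodd (odd_orderOf_swap _ _ h2)
  have h2 : Γ.diam ≤ 2 := ENat.toNat_le_of_le_natCast (by exact_mod_cast hed)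
  omega

end Cfsg.Agent.InvGraph
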