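import Mathlib
import Cfsg.Agent.Lib.InvGraph.Basic

/-!
Involutions of PSL(2,q) through trace zero matrices; products of odd order from traces.
-/

set_option autoImplicit false

namespace Cfsg.Agent.InvGraph

open scoped Matrix
open Matrix

variable {F : Type*} [Field F]

local notation "SL" => Matrix.SpecialLinearGroup (Fin 2) F
local notation "π" => QuotientGroup.mk' (Subgroup.center (Matrix.SpecialLinearGroup (Fin 2) F))

/-- Cayley–Hamilton in SL(2). -/
theorem sl_sq (A : SL) : A.1 * A.1 = A.1.trace • A.1 - 1 := by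
  have h : A.1 0 0 * A.1 1 1 - A.1 0 1 * A.1 1 0 = 1 := by
    have := A.2; rwa [det_fin_two] at this
  ext i j
  fin_cases i <;> fin_cases j <;> simp [mul_apply, Fin.sum_univ_two, trace_fin_two]
  · linear_combination -h
  · ring
  · ring
  · linear_combination -h

theorem mem_center_iff (A : SL) : A ∈ Subgroup.center SL ↔ A.1 = 1 ∨ A.1 = -1 := by
  rw [Matrix.SpecialLinearGroup.mem_center_iff]
  constructor
  · rintro ⟨r, hr, h⟩
    have hr' : (r - 1) * (r + 1) = 0 := by
      rw [Fintype.card_fin] at hr; linear_combination hr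
    rcases mul_eq_zero.1 hr' with h1 | h1
    · left; rw [← h, sub_eq_zero.1 h1, map_one]
    · right; rw [← h, eq_neg_of_add_eq_zero_left h1, map_neg, map_one]
  · rintro (h | h)
    · exact ⟨1, by simp, by simp [h]⟩
    · refine ⟨-1, by simp, ?_⟩
      rw [h, map_neg, map_one]

theorem mk_eq_one_iff (A : SL) : π A = 1 ↔ A.1 = 1 ∨ A.1 = -1 := by
  rw [← mem_center_iff]; exact QuotientGroup.eq_one_iff A

/-- An element whose image is an involution has trace zero. -/
theorem trace_eq_zero_of_orderOf (A : SL) (h : orderOf (π A) = 2) : A.1.trace = 0 := by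
  have hne : π A ≠ 1 := fun h1 => by rw [h1, orderOf_one] at h; exact absurd h (by norm_num)
  have hsq : π (A * A) = 1 := by
    have := pow_orderOf_eq_one (π A); rw [h, pow_two] at this; rw [map_mul]; exact this
  rw [Ne, mk_eq_one_iff, not_or] at hne
  rw [mk_eq_one_iff, Matrix.SpecialLinearGroup.coe_mul, sl_sq] at hsq
  by_contra ht
  rcases hsq with h1 | h1
  · -- the matrix would be scalar
    have h2 : A.1 = (2 / A.1.trace) • (1 : Matrix (Fin 2) (Fin 2) F) := by
      have h3 : A.1.trace • A.1 = (2 : F) • (1 : Matrix (Fin 2) (Fin 2) F) := by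
        rw [two_smul]; exact sub_eq_iff_eq_add.1 h1
      rw [div_eq_inv_mul, ← smul_smul, ← h3, smul_smul, inv_mul_cancel₀ ht, one_smul]
    have hd := A.2
    rw [h2, det_smul, det_one, mul_one, Fintype.card_fin] at hd
    have hc : (2 / A.1.trace - 1) * (2 / A.1.trace + 1) = 0 := by linear_combination hd
    rcases mul_eq_zero.1 hc with h3 | h3
    · apply hne.1; rw [h2, sub_eq_zero.1 h3, one_smul]
    · apply hne.2; rw [h2, eq_neg_of_add_eq_zero_left h3, neg_smul, one_smul]
  · have h2 : A.1.trace • A.1 = 0 := by simpa using h1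
    have hd := A.2
    rw [(smul_eq_zero.1 h2).resolve_left ht] at hd
    simp at hd

theorem sq_eq_neg_one (A : SL) (h : A.1.trace = 0) : A.1 * A.1 = -1 := by
  rw [sl_sq, h, zero_smul, zero_sub]

/-- The standard involution. -/
def std : SL := ⟨!![0, -1; 1, 0], by simp [det_fin_two_of]⟩

/-- If the form det [v, Av] represents one, A is conjugate to the standard matrix. -/
theorem conj_standard (A : SL) (h : A.1.trace = 0) (v0 v1 : F)
    (hv : A.1 1 0 * v0 * v0 - 2 * A.1 0 0 * v0 * v1 - A.1 0 1 * v1 * v1 = 1) :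
    IsConj (std : SL) A := by
  have hd : A.1 1 1 = -A.1 0 0 := by
    rw [trace_fin_two] at h; linear_combination h
  have hdet : A.1 0 0 * A.1 1 1 - A.1 0 1 * A.1 1 0 = 1 := by
    have := A.2; rwa [det_fin_two] at this
  rw [hd] at hdet
  let P : SL := ⟨!![v0, A.1 0 0 * v0 + A.1 0 1 * v1; v1, A.1 1 0 * v0 + A.1 1 1 * v1], by
    rw [det_fin_two_of, hd]; linear_combination hv⟩
  refine isConj_iff.2 ⟨P, ?_⟩
  rw [mul_inv_eq_iff_eq_mul]
  apply Subtype.ext
  show !![v0, A.1 0 0 * v0 + A.1 0 1 * v1; v1, A.1 1 0 * v0 + A.1 1 1 * v1] *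
    !![0, -1; 1, 0] = A.1 * !![v0, A.1 0 0 * v0 + A.1 0 1 * v1; v1, A.1 1 0 * v0 + A.1 1 1 * v1]
  ext i j
  fin_cases i <;> fin_cases j <;> simp [mul_apply, Fin.sum_univ_two, hd]
  · linear_combination v0 * hdet
  · linear_combination v1 * hdet

theorem isConj_of_trace [Finite F] (A B : SL) (hA : A.1.trace = 0) (hB : B.1.trace = 0)
    (hA' : A.1 ≠ 1) (hB' : B.1 ≠ 1) : IsConj A B := by
  suffices h : ∀ C : SL, C.1.trace = 0 → C.1 ≠ 1 →
      IsConj (std : SL) C from
    (h A hA hA').symm.trans (h B hB hB')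
  intro C hC hC'
  have hd : C.1 1 1 = -C.1 0 0 := by
    rw [trace_fin_two] at hC; linear_combination hC
  have hdet : C.1 0 0 * C.1 1 1 - C.1 0 1 * C.1 1 0 = 1 := by
    have := C.2; rwa [det_fin_two] at this
  rw [hd] at hdet
  haveI := Fintype.ofFinite F
  by_cases h2 : ringChar F = 2
  · haveI : CharP F 2 := h2 ▸ ringChar.charP F
    have h20 : (2 : F) = 0 := by exact_mod_cast CharP.cast_eq_zero F 2
    by_cases hr : C.1 1 0 = 0
    · have hq : C.1 0 1 ≠ 0 := by
        intro hq
        apply hC'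
        rw [hr, hq] at hdet
        have hp : (C.1 0 0 - 1) * (C.1 0 0 - 1) = 0 := by
          linear_combination -hdet - C.1 0 0 * h20
        have hp' : C.1 0 0 = 1 := sub_eq_zero.1 (mul_self_eq_zero.1 hp)
        ext i j
        fin_cases i <;> fin_cases j <;> simp [hr, hq, hp', hd, CharTwo.neg_eq]
      obtain ⟨s, hs⟩ := FiniteField.isSquare_of_char_two h2 (-(C.1 0 1))⁻¹
      exact conj_standard C hC 0 s (by
        have : -(C.1 0 1) * (s * s) = 1 := by rw [← hs, mul_inv_cancel₀ (neg_ne_zero.2 hq)]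
        linear_combination this)
    · obtain ⟨s, hs⟩ := FiniteField.isSquare_of_char_two h2 (C.1 1 0)⁻¹
      exact conj_standard C hC s 0 (by
        have : C.1 1 0 * (s * s) = 1 := by rw [← hs, mul_inv_cancel₀ hr]
        linear_combination this)
  · have h20 : (2 : F) ≠ 0 := Ring.two_ne_zero h2
    by_cases hr : C.1 1 0 = 0
    · have hp : C.1 0 0 ≠ 0 := by
        intro hp
        rw [hr, hp] at hdet
        simp at hdet
      refine conj_standard C hC (-(1 + C.1 0 1) / (2 * C.1 0 0)) 1 ?_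
      rw [hr]
      field_simp
      ring
    · obtain ⟨X, Y, hXY⟩ : ∃ X Y : F, X ^ 2 + Y ^ 2 = C.1 1 0 := by
        obtain ⟨X, Y, h⟩ := FiniteField.exists_root_sum_quadratic
          (f := (Polynomial.X ^ 2 : Polynomial F))
          (g := (Polynomial.X ^ 2 - Polynomial.C (C.1 1 0) : Polynomial F))
          (Polynomial.degree_X_pow 2) (Polynomial.degree_X_pow_sub_C two_pos _)
          (FiniteField.odd_card_of_char_ne_two h2)
        exact ⟨X, Y, by simp at h; linear_combination h⟩
      refine conj_standard C hC ((X + C.1 0 0 * Y) / C.1 1 0) Y ?_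
      field_simp
      linear_combination hXY + Y ^ 2 * hdet

/-- Elements of SL(2) whose trace is twice a sign have image of odd order. -/
theorem odd_of_trace_two {p : ℕ} [Fact p.Prime] [CharP F p] (hp : p ≠ 2) (M : SL)
    (h : M.1.trace = 2 ∨ M.1.trace = -2) : Odd (orderOf (π M)) := by
  have key : ∀ N : Matrix (Fin 2) (Fin 2) F, N * N = (2 : F) • N - 1 → N ^ p = 1 := by
    intro N hN
    have h1 : (N - 1) * (N - 1) = 0 := by
      rw [sub_mul, mul_sub, one_mul, mul_one, hN, two_smul]; abel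
    have h2 : (N - 1) ^ p = 0 :=
      pow_eq_zero_of_le (Fact.out : p.Prime).two_le (by rw [pow_two, h1])
    have := add_pow_char_of_commute (R := Matrix (Fin 2) (Fin 2) F) p (Commute.one_right (N - 1))
    rwa [sub_add_cancel, h2, zero_add, one_pow] at this
  have hpo : Odd p := (Fact.out : p.Prime).odd_of_ne_two hp
  have hM : π (M ^ p) = 1 := by
    rw [mk_eq_one_iff, Matrix.SpecialLinearGroup.coe_pow]
    rcases h with h | h
    · left; exact key _ (by rw [sl_sq, h])
    · right
      have := key (-M.1) (by rw [neg_mul_neg, sl_sq, h, smul_neg, neg_smul])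
      rw [Odd.neg_pow hpo] at this
      exact neg_eq_iff_eq_neg.1 this
  rw [map_pow] at hM
  exact hpo.of_dvd_nat (orderOf_dvd_of_pow_eq_one hM)

/-- For q ≡ 3 mod 4 a split element has image of odd order. -/
theorem odd_of_split [Fintype F] (hq : Fintype.card F % 4 = 3) (M : SL) (t : F) (ht : t ≠ 0)
    (htr : M.1.trace = t + t⁻¹) : Odd (orderOf (π M)) := by
  obtain ⟨p, hp⟩ := CharP.exists F
  haveI := hp
  haveI : Fact p.Prime := ⟨CharP.char_is_prime F p⟩
  have hp2 : p ≠ 2 := by
    rintro rfl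
    have := FiniteField.even_card_of_char_two (F := F) (ringChar.eq F 2).symm.symm
    omega
  by_cases htt : t = t⁻¹
  · apply odd_of_trace_two hp2
    have : (t - 1) * (t + 1) = 0 := by
      have h1 : t * t = 1 := by nth_rw 2 [htt]; exact mul_inv_cancel₀ ht
      linear_combination h1
    rcases mul_eq_zero.1 this with h1 | h1
    · left; rw [htr, sub_eq_zero.1 h1]; norm_num
    · right; rw [htr, eq_neg_of_add_eq_zero_left h1]; norm_num
  have h1 : M.1 * (M.1 - t⁻¹ • 1) = t • (M.1 - t⁻¹ • 1) := by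
    rw [mul_sub, sl_sq, htr, mul_smul_comm, mul_one, smul_sub, smul_smul, mul_inv_cancel₀ ht,
      one_smul, add_smul]
    abel
  have h2 : M.1 * (M.1 - t • 1) = t⁻¹ • (M.1 - t • 1) := by
    rw [mul_sub, sl_sq, htr, mul_smul_comm, mul_one, smul_sub, smul_smul, inv_mul_cancel₀ ht,
      one_smul, add_smul]
    abel
  have hn : ∀ n : ℕ, M.1 ^ n * (M.1 - t⁻¹ • 1) = t ^ n • (M.1 - t⁻¹ • 1) ∧
      M.1 ^ n * (M.1 - t • 1) = t⁻¹ ^ n • (M.1 - t • 1) := by
    intro n
    induction n with
    | zero => simp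
    | succ n ih =>
      constructor
      · rw [pow_succ, mul_assoc, h1, mul_smul_comm, ih.1, smul_smul, pow_succ']
      · rw [pow_succ, mul_assoc, h2, mul_smul_comm, ih.2, smul_smul, pow_succ']
  set n := Fintype.card F - 1 with hndef
  have hM : M.1 ^ n = 1 := by
    obtain ⟨e1, e2⟩ := hn n
    rw [FiniteField.pow_card_sub_one_eq_one t ht, one_smul] at e1
    rw [FiniteField.pow_card_sub_one_eq_one t⁻¹ (inv_ne_zero ht), one_smul] at e2
    have hd : (M.1 ^ n - 1) * ((M.1 - t⁻¹ • 1) - (M.1 - t • 1)) = 0 := by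
      rw [mul_sub, sub_mul, sub_mul, e1, e2, one_mul, one_mul, sub_self, sub_self, sub_zero]
    rw [sub_sub_sub_cancel_left, ← sub_smul, mul_smul_comm, mul_one, smul_eq_zero] at hd
    exact sub_eq_zero.1 (hd.resolve_left (sub_ne_zero.2 htt))
  have hhalf : Odd (n / 2) ∧ n = 2 * (n / 2) := by
    refine ⟨Nat.odd_iff.2 ?_, ?_⟩ <;> omega
  obtain ⟨hodd, hn2⟩ := hhalf
  have hsq : (M.1 ^ (n / 2) - 1) * (M.1 ^ (n / 2) + 1) = 0 := by
    rw [sub_mul, mul_add, mul_one, one_mul, ← pow_add, ← two_mul, ← hn2, hM]; abel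
  have hc : π (M ^ (n / 2)) = 1 := by
    rw [mk_eq_one_iff, Matrix.SpecialLinearGroup.coe_pow]
    have hS := sl_sq (M ^ (n / 2))
    rw [Matrix.SpecialLinearGroup.coe_pow] at hS
    set S := M.1 ^ (n / 2) with hSdef
    have hSS : S * S = 1 := by rw [hSdef, ← pow_add, ← two_mul, ← hn2, hM]
    rw [hSS] at hS
    have h20 : (2 : F) ≠ 0 := Ring.two_ne_zero (by rw [ringChar.eq F p]; exact hp2)
    have htS : S.trace • S = (2 : F) • (1 : Matrix (Fin 2) (Fin 2) F) := by
      rw [two_smul]; exact (sub_eq_iff_eq_add.1 hS.symm)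
    have htne : S.trace ≠ 0 := by
      intro h0
      rw [h0, zero_smul] at htS
      exact (smul_ne_zero h20 one_ne_zero) htS.symm
    have hS2 : S = (2 / S.trace) • (1 : Matrix (Fin 2) (Fin 2) F) := by
      rw [div_eq_inv_mul, ← smul_smul, ← htS, smul_smul, inv_mul_cancel₀ htne, one_smul]
    have hd : S.det = 1 := by rw [hSdef, det_pow, M.2, one_pow]
    rw [hS2, det_smul, det_one, mul_one, Fintype.card_fin] at hd
    have hc : (2 / S.trace - 1) * (2 / S.trace + 1) = 0 := by linear_combination hd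
    rcases mul_eq_zero.1 hc with h3 | h3
    · left; rw [hS2, sub_eq_zero.1 h3, one_smul]
    · right; rw [hS2, eq_neg_of_add_eq_zero_left h3, neg_smul, one_smul]
  rw [map_pow] at hc
  exact hodd.of_dvd_nat (orderOf_dvd_of_pow_eq_one hc)

/-- A third trace zero matrix with prescribed traces against two given ones. -/
theorem exists_third (h2 : (2 : F) ≠ 0) (A B : SL) (hA : A.1.trace = 0) (hB : B.1.trace = 0)
    (σ a b g : F) (hσ : (A.1 * B.1).trace = -2 * σ) (hne : 1 - σ ^ 2 ≠ 0)
    (hg : g ^ 2 = 1 - σ ^ 2 - a ^ 2 - b ^ 2 + 2 * σ * a * b) :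
    ∃ C : SL, C.1.trace = 0 ∧ (A.1 * C.1).trace = -2 * a ∧ (C.1 * B.1).trace = -2 * b := by
  set D := 1 - σ ^ 2 with hD
  have ha := hA; have hb := hB
  rw [trace_fin_two] at ha hb
  have hAdet : A.1 0 0 * A.1 1 1 - A.1 0 1 * A.1 1 0 = 1 := by
    have := A.2; rwa [det_fin_two] at this
  have hBdet : B.1 0 0 * B.1 1 1 - B.1 0 1 * B.1 1 0 = 1 := by
    have := B.2; rwa [det_fin_two] at this
  have hσ' := hσ
  rw [trace_fin_two, mul_apply, mul_apply, Fin.sum_univ_two, Fin.sum_univ_two] at hσ'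
  set p := A.1 0 0; set q := A.1 0 1; set r := A.1 1 0
  set u := B.1 0 0; set v := B.1 0 1; set w := B.1 1 0
  have hp : A.1 1 1 = -p := by linear_combination ha
  have hu : B.1 1 1 = -u := by linear_combination hb
  rw [hp] at hAdet hσ'
  rw [hu] at hBdet hσ'
  have hS : 2 * p * u + q * w + r * v = -2 * σ := by linear_combination hσ'
  set x := (a - σ * b) / D with hx
  set y := (b - σ * a) / D with hy
  set z := g / D with hz
  obtain ⟨kk, hk⟩ : ∃ kk : F, 2 * kk = q * w - v * r := ⟨(q * w - v * r) / 2, by field_simp⟩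
  let c00 := x * p + y * u + z * kk
  let c01 := x * q + y * v + z * (p * v - q * u)
  let c10 := x * r + y * w + z * (r * u - p * w)
  have hdet : (!![c00, c01; c10, -c00]).det = 1 := by
    rw [det_fin_two_of]
    have hmain : x ^ 2 + y ^ 2 + 2 * σ * x * y + z ^ 2 * D = 1 := by
      rw [hx, hy, hz]; field_simp; rw [hg, hD]; ring
    have hK : -kk ^ 2 - (p * v - q * u) * (r * u - p * w) = D := by
      refine mul_left_cancel₀ (mul_ne_zero h2 h2) ?_
      rw [hD]
      linear_combination (4 * (-p * p - q * r)) * hBdet + 4 * hAdet -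
        (2 * p * u + q * w + r * v - 2 * σ) * hS - (2 * kk + (q * w - v * r)) * hk
    simp only [c00, c01, c10]
    linear_combination hmain + x ^ 2 * hAdet + y ^ 2 * hBdet - x * y * hS + z ^ 2 * hK -
      z * (x * p + y * u) * hk
  refine ⟨⟨_, hdet⟩, ?_, ?_, ?_⟩
  · simp [trace_fin_two]
  · show (A.1 * !![c00, c01; c10, -c00]).trace = _
    simp [trace_fin_two, mul_apply, Fin.sum_univ_two, hp, c00, c01, c10]
    have e : x + σ * y = a := by rw [hx, hy]; field_simp; rw [hD]; ring
    rw [← e]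
    linear_combination (-2 * x) * hAdet + y * hS + z * p * hk
  · show ((!![c00, c01; c10, -c00]) * B.1).trace = _
    simp [trace_fin_two, mul_apply, Matrix.vecMul, dotProduct, Fin.sum_univ_two, hu, c00, c01, c10]
    have e : σ * x + y = b := by rw [hx, hy]; field_simp; rw [hD]; ring
    rw [← e]
    linear_combination (-2 * y) * hBdet + x * hS + z * u * hk

end Cfsg.Agent.InvGraph
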