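import Mathlib
import Cfsg.Agent.Lib.InvGraph.SL2

/-!
Common neighbours in the odd product graph on the involutions of PSL(2,q).
-/

set_option autoImplicit false

namespace Cfsg.Agent.InvGraph

open Matrix

variable {F : Type*} [Field F] [Fintype F]

local notation "SL" => Matrix.SpecialLinearGroup (Fin 2) F
local notation "π" => QuotientGroup.mk' (Subgroup.center (Matrix.SpecialLinearGroup (Fin 2) F))

/-- A matrix of determinant one as an element of SL(2). -/
def mkSL (M : Matrix (Fin 2) (Fin 2) F) (h : M.det = 1) : SL := ⟨M, h⟩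

@[simp] theorem coe_mkSL (M : Matrix (Fin 2) (Fin 2) F) (h : M.det = 1) : (mkSL M h).1 = M := rfl

theorem trace_conj (P M : SL) : (P * M * P⁻¹).1.trace = M.1.trace := by
  rw [Matrix.SpecialLinearGroup.coe_mul, Matrix.trace_mul_comm,
    ← Matrix.SpecialLinearGroup.coe_mul, ← mul_assoc, inv_mul_cancel, one_mul]

/-- In characteristic two a nonzero trace forces odd order. -/
theorem odd_of_trace_ne_zero (h2 : ringChar F = 2) (M : SL) (h : M.1.trace ≠ 0) :
    Odd (orderOf (π M)) := by
  haveI : CharP F 2 := h2 ▸ ringChar.charP F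
  refine Odd.of_dvd_nat ?_ (orderOf_map_dvd π M)
  by_contra hev
  rw [Nat.not_odd_iff_even] at hev
  obtain ⟨k, hk⟩ := hev
  have hpos := orderOf_pos M
  set I := M ^ k with hI
  have hI2 : I * I = 1 := by rw [hI, ← pow_add, ← hk, pow_orderOf_eq_one]
  have hI1 : I ≠ 1 := pow_ne_one_of_lt_orderOf (by omega) (by omega)
  have hI1' : I.1 ≠ 1 := fun e => hI1 (Subtype.ext (by rw [e]; rfl))
  have hπ : π I ≠ 1 := by
    rw [Ne, mk_eq_one_iff]
    rintro (e | e)
    · exact hI1' e
    · exact hI1' (by rw [e]; ext i j; simp [CharTwo.neg_eq])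
  have htr := trace_eq_zero_of_orderOf I (orderOf_eq_prime (by rw [pow_two, ← map_mul, hI2, map_one]) hπ)
  have hstd : (std : SL).1.trace = 0 := by simp [std, trace_fin_two]
  obtain ⟨P, hP⟩ := isConj_iff.1 (isConj_of_trace (std : SL) I hstd htr (fun e => by
    have := congrFun (congrFun e 0) 0; simp [std] at this) hI1')
  set N := P⁻¹ * M * P with hN
  have hcomm : (std : SL) * N = N * std := by
    have e : I * M = M * I := ((Commute.refl M).pow_left k).eq
    rw [← hP] at e
    calc (std : SL) * N = P⁻¹ * (P * std * P⁻¹ * M) * P := by rw [hN]; group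
      _ = N * std := by rw [e, hN]; group
  have hval : (std : SL).1 * N.1 = N.1 * (std : SL).1 := congrArg Subtype.val hcomm
  have h0 := congrFun (congrFun hval 0) 1
  simp [std, mul_apply, Matrix.vecMul, dotProduct, Fin.sum_univ_two, CharTwo.neg_eq] at h0
  apply h
  have := trace_conj P⁻¹ M
  rw [inv_inv] at this
  rw [← this, ← hN, trace_fin_two, h0]
  exact CharTwo.add_self_eq_zero _

/-- The middle vertex. -/
theorem exists_mid (hF : 4 ≤ Fintype.card F) (A B : SL) (hA : A.1.trace = 0) (hB : B.1.trace = 0)
    (hA1 : π A ≠ 1) (hB1 : π B ≠ 1) (hodd : ¬ Odd (orderOf (π (A * B)))) :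
    ∃ C : SL, C.1.trace = 0 ∧ C.1 ≠ 1 ∧ Odd (orderOf (π (A * C))) ∧
      Odd (orderOf (π (C * B))) := by
  by_cases h2 : ringChar F = 2
  · haveI : CharP F 2 := h2 ▸ ringChar.charP F
    have h20 : (2 : F) = 0 := by exact_mod_cast CharP.cast_eq_zero F 2
    have hA1' : A.1 ≠ 1 := fun e => hA1 ((mk_eq_one_iff A).2 (Or.inl e))
    have hstd : (std : SL).1.trace = 0 := by simp [std, trace_fin_two]
    obtain ⟨P, hP⟩ := isConj_iff.1 (isConj_of_trace (std : SL) A hstd hA (fun e => by
      have := congrFun (congrFun e 0) 0; simp [std] at this) hA1')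
    set B' := P⁻¹ * B * P with hB'
    let C' : SL := ⟨!![1, 1; 0, 1], by simp [det_fin_two_of]⟩
    have hBt : B'.1.trace = 0 := by
      have := trace_conj P⁻¹ B; rw [inv_inv] at this; rw [hB', this, hB]
    have hAB : ((std : SL) * B').1.trace = 0 := by
      by_contra h
      apply hodd
      apply odd_of_trace_ne_zero h2
      have e : A * B = P * (std * B') * P⁻¹ := by rw [← hP, hB']; group
      rwa [e, trace_conj]
    have hbd : B'.1 1 1 = B'.1 0 0 := by
      rw [trace_fin_two] at hBt
      linear_combination hBt - B'.1 0 0 * h20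
    have hbc : B'.1 1 0 = B'.1 0 1 := by
      rw [Matrix.SpecialLinearGroup.coe_mul] at hAB
      simp [std, trace_fin_two, mul_apply, Matrix.vecMul, dotProduct, Fin.sum_univ_two, CharTwo.neg_eq] at hAB
      linear_combination hAB - B'.1 0 1 * h20
    have hb0 : B'.1 0 1 ≠ 0 := by
      intro h0
      have hd := B'.2
      rw [det_fin_two, hbd, hbc, h0, mul_zero, sub_zero] at hd
      have ha : B'.1 0 0 = 1 := by
        have : (B'.1 0 0 - 1) * (B'.1 0 0 - 1) = 0 := by
          linear_combination hd + (1 - B'.1 0 0) * h20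
        exact sub_eq_zero.1 (mul_self_eq_zero.1 this)
      have hB'1 : B' = 1 := by
        ext i j
        fin_cases i <;> fin_cases j
        · exact ha
        · exact h0
        · exact hbc.trans h0
        · exact hbd.trans ha
      have : B = 1 := by
        have := congrArg (fun z => P * z * P⁻¹) hB'1
        simpa [hB', mul_assoc] using this
      exact hB1 (by rw [this, map_one])
    refine ⟨P * C' * P⁻¹, ?_, ?_, ?_, ?_⟩
    · rw [trace_conj]
      simp [C', trace_fin_two]
      exact CharTwo.add_self_eq_zero _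
    · intro e
      have e' : P * C' * P⁻¹ = 1 := Subtype.ext e
      have := congrArg (fun z : SL => (P⁻¹ * z * P).1 0 1) e'
      simp [mul_assoc] at this
      simp [C'] at this
    · apply odd_of_trace_ne_zero h2
      have e : A * (P * C' * P⁻¹) = P * (std * C') * P⁻¹ := by rw [← hP]; group
      rw [e, trace_conj, Matrix.SpecialLinearGroup.coe_mul]
      simp [std, C', trace_fin_two, mul_apply, Matrix.vecMul, dotProduct, Fin.sum_univ_two]
    · apply odd_of_trace_ne_zero h2
      have e : P * C' * P⁻¹ * B = P * (C' * B') * P⁻¹ := by rw [hB']; group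
      rw [e, trace_conj, Matrix.SpecialLinearGroup.coe_mul]
      simp [C', trace_fin_two, mul_apply, Matrix.vecMul, dotProduct, Fin.sum_univ_two, hbd, hbc]
      intro h
      apply hb0
      linear_combination h - B'.1 0 0 * h20
  · have h20 : (2 : F) ≠ 0 := Ring.two_ne_zero h2
    obtain ⟨p, hp⟩ := CharP.exists F
    haveI := hp
    haveI : Fact p.Prime := ⟨CharP.char_is_prime F p⟩
    have hp2 : p ≠ 2 := by rintro rfl; exact h2 (ringChar.eq F 2)
    obtain ⟨σ, hσ⟩ : ∃ σ : F, (A.1 * B.1).trace = -2 * σ :=
      ⟨-(A.1 * B.1).trace / 2, by field_simp⟩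
    have hD : 1 - σ ^ 2 ≠ 0 := by
      intro h
      apply hodd
      apply odd_of_trace_two hp2
      rw [Matrix.SpecialLinearGroup.coe_mul, hσ]
      have : (σ - 1) * (σ + 1) = 0 := by linear_combination -h
      rcases mul_eq_zero.1 this with h1 | h1
      · right; rw [sub_eq_zero.1 h1, mul_one]
      · left; rw [eq_neg_of_add_eq_zero_left h1]; ring
    have hne1 : ∀ C : SL, C.1.trace = 0 → C.1 ≠ 1 := fun C hC e => by
      rw [e] at hC; simp [trace_fin_two] at hC; exact h20 (by linear_combination hC)
    classical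
    by_cases hi : IsSquare (-1 : F)
    · obtain ⟨i, hi⟩ := hi
      obtain ⟨C, hC, hAC, hCB⟩ := exists_third h20 A B hA hB σ 1 1 ((σ - 1) * i) hσ hD (by
        linear_combination -(σ - 1) ^ 2 * hi)
      refine ⟨C, hC, hne1 C hC, odd_of_trace_two hp2 _ (Or.inr ?_), odd_of_trace_two hp2 _ (Or.inr ?_)⟩
      · rw [Matrix.SpecialLinearGroup.coe_mul, hAC]; ring
      · rw [Matrix.SpecialLinearGroup.coe_mul, hCB]; ring
    · have hq : Fintype.card F % 4 = 3 := by
        by_contra h; exact hi (FiniteField.isSquare_neg_one_iff.2 h)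
      have hsplit : ∀ x : F, IsSquare x ∨ IsSquare (-x) := by
        intro x
        by_cases hx : IsSquare x
        · exact Or.inl hx
        · right
          have h1 : quadraticChar F x = -1 := (quadraticChar_neg_one_iff_not_isSquare).2 hx
          have h2' : quadraticChar F (-1) = -1 := (quadraticChar_neg_one_iff_not_isSquare).2 hi
          have hx0 : x ≠ 0 := by rintro rfl; exact hx ⟨0, by simp⟩
          rw [← quadraticChar_one_iff_isSquare (neg_ne_zero.2 hx0), neg_eq_neg_one_mul, map_mul,
            h1, h2']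
          norm_num
      have hnot : ∀ x : F, x ≠ 0 → IsSquare x → ¬ IsSquare (-x) := by
        rintro x hx ⟨c, rfl⟩ ⟨d, hd⟩
        have hc : c ≠ 0 := fun e => hx (by rw [e, mul_zero])
        exact hi ⟨d / c, by field_simp; linear_combination hd⟩
      obtain ⟨τ, hτ⟩ : IsSquare (1 - σ ^ 2) := by
        rcases hsplit (1 - σ ^ 2) with h | ⟨s, hs⟩
        · exact h
        exfalso
        apply hodd
        have ht : (-σ + s) * (-σ - s) = 1 := by linear_combination hs
        refine odd_of_split hq _ (-σ + s) (left_ne_zero_of_mul_eq_one ht) ?_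
        rw [Matrix.SpecialLinearGroup.coe_mul, hσ, inv_eq_of_mul_eq_one_right ht]
        ring
      set f : F → F := fun X => X ^ 2 - 2 * σ * X + 1 with hf
      have hf0 : ∀ X, f X ≠ 0 := by
        intro X h
        have e : (X - σ) * (X - σ) = -(τ * τ) := by simp only [hf] at h; linear_combination h - hτ
        have hτ0 : τ * τ ≠ 0 := hτ ▸ hD
        exact hnot _ hτ0 ⟨τ, rfl⟩ ⟨X - σ, e.symm⟩
      obtain ⟨P, hP0, hPf⟩ : ∃ P, P ≠ 0 ∧ IsSquare (f P) := by
        classical
        obtain ⟨d, -, hd⟩ := Finset.exists_mem_notMem_of_card_lt_card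
          (s := ({0, σ + 1, σ - 1} : Finset F)) (t := Finset.univ)
          (lt_of_le_of_lt Finset.card_le_three (by rw [Finset.card_univ]; omega))
        simp only [Finset.mem_insert, Finset.mem_singleton, not_or] at hd
        obtain ⟨hd0, hd1, hd2⟩ := hd
        refine ⟨(τ * τ / d - d) / 2 + σ, ?_, ⟨(τ * τ / d + d) / 2, ?_⟩⟩
        · intro e
          field_simp at e
          have : (d - σ - 1) * (d - σ + 1) = 0 := by linear_combination -e - hτ
          rcases mul_eq_zero.1 this with h | h
          · exact hd1 (by linear_combination h)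
          · exact hd2 (by linear_combination h)
        · simp only [hf]
          field_simp
          linear_combination 4 * d ^ 2 * hτ
      obtain ⟨N, hN0, hNf⟩ : ∃ N, N ≠ 0 ∧ ¬ IsSquare (f N) := by
        by_contra! h
        have hall : ∀ N, IsSquare (f N) := by
          intro N
          by_cases hN : N = 0
          · exact ⟨1, by simp [hf, hN]⟩
          · exact h N hN
        have hk : ∀ k : ℕ, IsSquare ((k : F) * (τ * τ)) := by
          intro k
          induction k with
          | zero => exact ⟨0, by simp⟩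
          | succ k ih =>
            obtain ⟨X, hX⟩ := ih
            obtain ⟨Y, hY⟩ := hall (X + σ)
            refine ⟨Y, ?_⟩
            rw [← hY]; simp only [hf]; push_cast
            linear_combination hX - hτ
        have hlast := hk (p - 1)
        rw [Nat.cast_sub (Fact.out : p.Prime).one_le, CharP.cast_eq_zero, Nat.cast_one, zero_sub,
          neg_one_mul] at hlast
        exact hnot _ (hτ ▸ hD) ⟨τ, rfl⟩ hlast
      -- two points of the same class with different values
      obtain ⟨U, V, hU, hV, hUV, hfUV⟩ : ∃ U V : F, U ≠ 0 ∧ V ≠ 0 ∧ IsSquare (U * V) ∧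
          IsSquare (-(f U * f V)) := by
        have hdiff : ∀ X Y, IsSquare (f X) → ¬ IsSquare (f Y) → IsSquare (-(f X * f Y)) := by
          intro X Y hX hY
          rw [← mul_neg]
          exact hX.mul ((hsplit (f Y)).resolve_left hY)
        rcases hsplit (P * N) with h | h
        · exact ⟨P, N, hP0, hN0, h, hdiff P N hPf hNf⟩
        have hflip : IsSquare (f 1) ↔ IsSquare (f (-1)) := by
          have e : f 1 * f (-1) = (2 * τ) * (2 * τ) := by
            simp only [hf]; linear_combination 4 * hτ
          constructor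
          · intro h1
            by_contra h2'
            exact hnot _ (mul_ne_zero (hf0 1) (hf0 (-1))) ⟨2 * τ, e⟩ (hdiff 1 (-1) h1 h2')
          · intro h1
            by_contra h2'
            refine hnot _ (mul_ne_zero (hf0 1) (hf0 (-1))) ⟨2 * τ, e⟩ ?_
            rw [mul_comm (f 1)]
            exact hdiff (-1) 1 h1 h2'
        by_cases h1 : IsSquare (f 1)
        · rcases hsplit N with hN' | hN'
          · exact ⟨1, N, one_ne_zero, hN0, by rwa [one_mul], hdiff 1 N h1 hNf⟩
          · exact ⟨-1, N, neg_ne_zero.2 one_ne_zero, hN0, by rwa [neg_one_mul],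
              hdiff (-1) N (hflip.1 h1) hNf⟩
        · rcases hsplit P with hP' | hP'
          · exact ⟨P, 1, hP0, one_ne_zero, by rwa [mul_one], hdiff P 1 hPf h1⟩
          · exact ⟨P, -1, hP0, neg_ne_zero.2 one_ne_zero, by rwa [mul_neg, mul_one],
              hdiff P (-1) hPf (fun h' => h1 (hflip.2 h'))⟩
      obtain ⟨t, ht⟩ := hUV
      obtain ⟨e, he⟩ := hfUV
      have ht0 : t ≠ 0 := fun h => mul_ne_zero hU hV (by rw [ht, h, mul_zero])
      obtain ⟨C, hC, hAC, hCB⟩ := exists_third h20 A B hA hB σ ((t + t⁻¹) / 2)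
        ((U / t + (U / t)⁻¹) / 2) (e / (2 * t)) hσ hD (by
          have hVt : V = t * t / U := by rw [← ht]; field_simp
          simp only [hf] at he
          rw [hVt] at he
          field_simp at he ⊢
          linear_combination -he)
      refine ⟨C, hC, hne1 C hC, odd_of_split hq _ (-t) (neg_ne_zero.2 ht0) ?_,
        odd_of_split hq _ (-(U / t)) (neg_ne_zero.2 (div_ne_zero hU ht0)) ?_⟩
      · rw [Matrix.SpecialLinearGroup.coe_mul, hAC, inv_neg]; field_simp; ring
      · rw [Matrix.SpecialLinearGroup.coe_mul, hCB, inv_neg]; field_simp; ring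

/-- A commuting pair of distinct involutions. -/
theorem exists_pair (hF : 4 ≤ Fintype.card F) : ∃ A B : SL, A.1.trace = 0 ∧ B.1.trace = 0 ∧
    A.1 ≠ 1 ∧ B.1 ≠ 1 ∧ π A ≠ π B ∧ ¬ Odd (orderOf (π (A * B))) := by
  classical
  have hstd : (std : SL).1.trace = 0 := by simp [std, trace_fin_two]
  have hs1 : (std : SL).1 ≠ 1 := fun e => by
    have := congrFun (congrFun e 0) 0; simp [std] at this
  obtain ⟨B, hBt, hB1, hAB, hn⟩ : ∃ B : SL, B.1.trace = 0 ∧ B.1 ≠ 1 ∧
      (((std : SL) * B).1.trace = 0) ∧ π ((std : SL) * B) ≠ 1 := by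
    by_cases h2 : ringChar F = 2
    · haveI : CharP F 2 := h2 ▸ ringChar.charP F
      obtain ⟨c, -, hc⟩ := Finset.exists_mem_notMem_of_card_lt_card
        (s := ({0, 1} : Finset F)) (t := Finset.univ)
        (lt_of_le_of_lt Finset.card_le_two (by rw [Finset.card_univ]; omega))
      simp only [Finset.mem_insert, Finset.mem_singleton, not_or] at hc
      have h20 : (2 : F) = 0 := by exact_mod_cast CharP.cast_eq_zero F 2
      refine ⟨mkSL !![1 + c, c; c, 1 + c] (by rw [det_fin_two_of]; linear_combination c * h20), ?_, ?_, ?_, ?_⟩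
      · simp [trace_fin_two]; exact CharTwo.add_self_eq_zero _
      · intro e
        have := congrFun (congrFun e 0) 1; simp at this; exact hc.1 this
      · rw [Matrix.SpecialLinearGroup.coe_mul]
        simp [std, trace_fin_two, mul_apply, Matrix.vecMul, dotProduct, Fin.sum_univ_two, CharTwo.neg_eq]
        exact CharTwo.add_self_eq_zero _
      · rw [Ne, mk_eq_one_iff]
        rintro (e | e) <;>
          · rw [Matrix.SpecialLinearGroup.coe_mul] at e
            have := congrFun (congrFun e 0) 1
            simp [std, mul_apply, Matrix.vecMul, dotProduct, Fin.sum_univ_two, CharTwo.neg_eq] at this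
            exact hc.2 (by linear_combination this - h20)
    · have h20 : (2 : F) ≠ 0 := Ring.two_ne_zero h2
      obtain ⟨X, Y, hXY⟩ : ∃ X Y : F, X ^ 2 + Y ^ 2 = -1 := by
        obtain ⟨X, Y, h⟩ := FiniteField.exists_root_sum_quadratic
          (f := (Polynomial.X ^ 2 : Polynomial F))
          (g := (Polynomial.X ^ 2 - Polynomial.C (-1) : Polynomial F))
          (Polynomial.degree_X_pow 2) (Polynomial.degree_X_pow_sub_C two_pos _)
          (FiniteField.odd_card_of_char_ne_two h2)
        exact ⟨X, Y, by simp at h; linear_combination h⟩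
      refine ⟨mkSL !![X, Y; Y, -X] (by rw [det_fin_two_of]; linear_combination -hXY), ?_, ?_, ?_, ?_⟩
      · simp [trace_fin_two]
      · intro e
        have a := congrFun (congrFun e 0) 0
        have b := congrFun (congrFun e 1) 1
        simp at a b
        exact h20 (by linear_combination -a - b)
      · rw [Matrix.SpecialLinearGroup.coe_mul]
        simp [std, trace_fin_two, mul_apply, Matrix.vecMul, dotProduct, Fin.sum_univ_two]
      · rw [Ne, mk_eq_one_iff]
        rintro (e | e) <;>
          · rw [Matrix.SpecialLinearGroup.coe_mul] at e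
            have a := congrFun (congrFun e 0) 0
            have b := congrFun (congrFun e 1) 1
            simp [std, mul_apply, Matrix.vecMul, dotProduct, Fin.sum_univ_two] at a b
            first
              | exact h20 (by linear_combination -a - b)
              | exact h20 (by linear_combination a + b)
              | exact h20 (by linear_combination b - a)
              | exact h20 (by linear_combination a - b)
  have hinv : π (std : SL) * π (std : SL) = 1 := by
    rw [← map_mul, mk_eq_one_iff]; right
    rw [Matrix.SpecialLinearGroup.coe_mul, sq_eq_neg_one _ hstd]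
  refine ⟨std, B, hstd, hBt, hs1, hB1, ?_, ?_⟩
  · intro e
    apply hn
    rw [map_mul, ← e, hinv]
  · have h : orderOf (π ((std : SL) * B)) = 2 := orderOf_eq_prime (by
      rw [← map_pow, mk_eq_one_iff]; right
      rw [Matrix.SpecialLinearGroup.coe_pow, pow_two, sq_eq_neg_one _ hAB]) hn
    rw [h]; decide

end Cfsg.Agent.InvGraph
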